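import Groth.Agent.Lib.Helper24.RH.Lift
import Groth.Agent.Lib.Helper24.FFExt.Unram
import Groth.Agent.Lib.Helper24.FFExt.Weak
import Groth.Agent.Lib.Helper24.FFExt.Geometric
import Groth.Agent.Lib.Helper18.Zeta.Split

/-! # The Bombieri bound after a constant field extension (helper24) -/

set_option autoImplicit false
set_option linter.style.haveILetI false

namespace Groth.Agent.Lib.Helper24.RH

open FunFld WithZero Groth.Agent.Lib.Helper18.FF Groth.Agent.Lib.Helper24.FFExt

open scoped TensorProduct

universe u v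

variable {k k' : Type u} {K K' : Type v} [Field k] [Field k'] [Field K] [Field K']
  [Algebra k k'] [Algebra k K] [Algebra K K'] [Algebra k' K'] [Algebra k K']
  [IsScalarTower k k' K'] [IsScalarTower k K K']

/-- The automorphism `1 ⊗ σ` of `K' = k' ⊗ K`. -/
noncomputable def liftAut
    (h : Function.Bijective (Algebra.TensorProduct.productMap
      (IsScalarTower.toAlgHom k k' K') (IsScalarTower.toAlgHom k K K')))
    (σ : K ≃ₐ[k] K) : K' ≃ₐ[k'] K' :=
  (tensorEquiv h).symm.trans ((Algebra.TensorProduct.congr AlgEquiv.refl σ).trans (tensorEquiv h))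

theorem liftAut_algebraMap
    (h : Function.Bijective (Algebra.TensorProduct.productMap
      (IsScalarTower.toAlgHom k k' K') (IsScalarTower.toAlgHom k K K')))
    (σ : K ≃ₐ[k] K) (x : K) :
    liftAut h σ (algebraMap K K' x) = algebraMap K K' (σ x) := by
  have h1 : (tensorEquiv h).symm (algebraMap K K' x) = (1 : k') ⊗ₜ[k] x := by
    rw [AlgEquiv.symm_apply_eq, tensorEquiv_tmul, map_one, one_mul]
  rw [liftAut, AlgEquiv.trans_apply, AlgEquiv.trans_apply, h1]
  simp only [Algebra.TensorProduct.congr_apply, Algebra.TensorProduct.map_tmul]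
  rw [tensorEquiv_tmul]
  simp

theorem pow_card_pow_eq {F : Type*} [Field F] [Finite F] (s : ℕ) (y : F) :
    y ^ (Nat.card F ^ s) = y := by
  haveI := Fintype.ofFinite F
  induction s with
  | zero => simp
  | succ s ih =>
    rw [pow_succ, pow_mul, ih, Nat.card_eq_fintype_card, FiniteField.pow_card]

/-- **The Bombieri bound through a constant field extension with a rational place.** -/
theorem bombieri_baseChange [Finite k] [Finite k'] [FiniteDimensional k k']
    (h : Function.Bijective (Algebra.TensorProduct.productMap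
      (IsScalarTower.toAlgHom k k' K') (IsScalarTower.toAlgHom k K K')))
    (hK : IsFunctionField k K) (hK' : IsFunctionField k' K')
    (P₀ : Place k' K') (hP₀ : P₀.deg = 1) (σ : K ≃ₐ[k] K) (a : ℕ)
    (ha : (genus k' K' + 1) ^ 2 < Nat.card k' ^ a)
    (S : Finset (Place k K))
    (hS : ∀ R ∈ S, IsFrobAt k σ (2 * (Module.finrank k k' * a)) R) :
    ∑ R ∈ S, R.deg ≤ Nat.card k' ^ (2 * a) + (2 * genus k' K' + 1) * Nat.card k' ^ a := by
  classical
  haveI := Fintype.ofFinite k
  set d := Module.finrank k k' with hd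
  have hdpos : 0 < d := Module.finrank_pos
  have hcard : Nat.card k' = Nat.card k ^ d := Module.natCard_eq_pow_finrank
  have hN : Nat.card k ^ (2 * (d * a)) = Nat.card k' ^ (2 * a) := by
    rw [hcard, ← pow_mul]; congr 1; ring
  set σ' := liftAut h σ with hσ'
  haveI : Algebra.IsAlgebraic k k' := Algebra.IsAlgebraic.of_finite k k'
  haveI : Algebra.IsSeparable k k' := Algebra.IsAlgebraic.isSeparable_of_perfectField
  haveI := finiteDimensional_of_tensor h
  obtain ⟨p, hchar⟩ := CharP.exists k
  haveI := hchar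
  haveI hp : Fact p.Prime := ⟨CharP.char_is_prime k p⟩
  obtain ⟨f, -, hcardk⟩ := FiniteField.card k p
  have hqp : Nat.card k = p ^ (f : ℕ) := by rw [Nat.card_eq_fintype_card, hcardk]
  haveI : CharP K' p := charP_of_injective_algebraMap (algebraMap k K').injective p
  have hmemOver : ∀ (R : Place k K) (Q : Place k K'),
      Q ∈ (finite_isOver (K' := K') hK R).toFinset ↔ IsOver Q R := fun R Q =>
    Set.Finite.mem_toFinset (finite_isOver (K' := K') hK R)
  set S' : Finset (Place k' K') := S.biUnion fun R =>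
    ((finite_isOver (K' := K') hK R).toFinset).image (toAlg k') with hS'def
  have hS' : ∀ R' ∈ S', IsFrobAt k' σ' (2 * a) R' := by
    intro R' hR'
    rw [hS'def, Finset.mem_biUnion] at hR'
    obtain ⟨R, hR, hR'⟩ := hR'
    rw [Finset.mem_image] at hR'
    obtain ⟨Q, hQ, rfl⟩ := hR'
    have hQR : IsOver Q R := (hmemOver R Q).mp hQ
    intro y hy
    have := isFrob_lift h hK σ (σ' : K' →+* K') (fun c => σ'.commutes c)
      (fun x => liftAut_algebraMap h σ x) (N := Nat.card k' ^ (2 * a)) p
      ⟨(f : ℕ) * (d * (2 * a)), by rw [hcard, hqp, ← pow_mul, ← pow_mul]⟩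
      (fun c => pow_card_pow_eq (2 * a) c)
      (P := R) (by
        intro x hx
        have := hS R hR x hx
        rwa [hN] at this) hQR y hy
    exact this
  have hB := bombieri hK' σ' P₀ hP₀ a ha S' hS'
  refine le_trans (le_of_eq ?_) hB
  rw [hS'def, Finset.sum_biUnion]
  · apply Finset.sum_congr rfl
    intro R _
    rw [Finset.sum_image (fun Q _ Q' _ hQQ' => toAlg_injective k' hQQ')]
    have h1 := sum_ramIdx_mul_deg (K' := K') hK R (finite_isOver (K' := K') hK R).toFinset
      (hmemOver R)
    rw [Groth.Agent.Lib.Helper18.Zeta.finrank_of_tensor h] at h1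
    have h2 : ∀ Q ∈ (finite_isOver (K' := K') hK R).toFinset,
        ramIdx Q R * Q.deg = d * (toAlg k' Q).deg := by
      intro Q hQ
      have hQR : IsOver Q R := (hmemOver R Q).mp hQ
      letI : Algebra R.O K' := ((algebraMap K K').comp R.O.subtype).toAlgebra
      haveI : IsScalarTower R.O K K' := IsScalarTower.of_algebraMap_eq fun _ => rfl
      haveI := isReduced_of_isSeparable_const (k' := k') hK R
      have he := isOverWith_one_of_isReduced h hK hQR
      rw [isOverWith_ramIdx_eq he, one_mul, deg_eq_mul_deg_toAlg k' Q]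
    rw [Finset.sum_congr rfl h2, ← Finset.mul_sum] at h1
    exact (Nat.eq_of_mul_eq_mul_left hdpos h1).symm
  · intro R _ R₂ _ hne
    rw [Function.onFun, Finset.disjoint_left]
    intro Q' hQ' hQ₂'
    rw [Finset.mem_image] at hQ' hQ₂'
    obtain ⟨Q, hQ, rfl⟩ := hQ'
    obtain ⟨Q₂, hQ₂, hQQ₂⟩ := hQ₂'
    have := toAlg_injective k' hQQ₂
    subst this
    exact hne (isOver_unique ((hmemOver R _).mp hQ) ((hmemOver R₂ _).mp hQ₂))

end Groth.Agent.Lib.Helper24.RH
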