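import Groth.Agent.Lib.Helper24.FFExt.Galois2
import Groth.Agent.Lib.Helper24.Zeta.Finite
import Groth.Agent.Lib.Helper18.FF.Flag
import Groth.Agent.Lib.Helper18.FF.Riemann
import Groth.Agent.Lib.Helper18.FF.RiemannRoch
import Groth.Agent.Lib.Helper18.FF.Approx
import Mathlib.FieldTheory.Finite.Basic
import Mathlib.Algebra.CharP.Lemmas

/-! # The Bombieri–Stepanov bound for Frobenius places (helper24) -/

set_option autoImplicit false
set_option linter.style.haveILetI false

namespace Groth.Agent.Lib.Helper24.RH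

open FunFld WithZero Groth.Agent.Lib.Helper18.FF Groth.Agent.Lib.Helper24.FFExt

universe u v

variable {k : Type u} {E : Type v} [Field k] [Field E] [Algebra k E]

/-- `Q` is a `(σ, r)`-Frobenius place: `x^(q^r) ≡ σ x` modulo `Q` for all `x` integral at `Q`. -/
def IsFrobAt (k : Type u) {E : Type v} [Field k] [Field E] [Algebra k E] (σ : E → E) (r : ℕ)
    (Q : Place k E) : Prop :=
  ∀ x : E, Q.1 x ≤ 1 → Q.1 (x ^ (Nat.card k ^ r) - σ x) < 1

/-- A finite sum whose nonzero terms have pairwise distinct valuations is nonzero. -/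
theorem sum_ne_zero_of_val_inj {ι Γ : Type*} [LinearOrderedCommGroupWithZero Γ]
    (v : Valuation E Γ) (s : Finset ι) (f : ι → E)
    (hinj : ∀ i ∈ s, ∀ j ∈ s, f i ≠ 0 → f j ≠ 0 → v (f i) = v (f j) → i = j)
    (hne : ∃ i ∈ s, f i ≠ 0) : ∑ i ∈ s, f i ≠ 0 := by
  classical
  set s' := s.filter (fun i => f i ≠ 0) with hs'
  have hsum : ∑ i ∈ s, f i = ∑ i ∈ s', f i := by
    rw [hs', Finset.sum_filter]
    apply Finset.sum_congr rfl
    intro i _
    by_cases h : f i = 0
    · rw [if_neg (not_not.mpr h), h]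
    · rw [if_pos h]
  have hne' : s'.Nonempty := by
    obtain ⟨i, hi, hfi⟩ := hne
    exact ⟨i, Finset.mem_filter.mpr ⟨hi, hfi⟩⟩
  obtain ⟨i₀, hi₀, hmax⟩ := Finset.exists_max_image s' (fun i => v (f i)) hne'
  have hi₀' := Finset.mem_filter.mp hi₀
  have hv : v (∑ i ∈ s', f i) = v (f i₀) := by
    apply Valuation.map_sum_eq_of_lt v hi₀
    intro i hi
    rw [Finset.mem_sdiff, Finset.mem_singleton] at hi
    have hi' := Finset.mem_filter.mp hi.1
    refine lt_of_le_of_ne (hmax i hi.1) ?_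
    intro heq
    exact hi.2 (hinj i hi'.1 i₀ hi₀'.1 hi'.2 hi₀'.2 heq)
  rw [hsum]
  intro h0
  rw [h0, map_zero] at hv
  exact hi₀'.2 ((Valuation.zero_iff v).mp hv.symm)

theorem placeComap_eq_iff (σ : E ≃ₐ[k] E) (R P : Place k E) :
    placeComap σ R = P ↔ R = placeComap σ.symm P := by
  constructor
  · rintro rfl
    exact (placeComap_inv_placeComap σ R).symm
  · rintro rfl
    have := placeComap_inv_placeComap σ⁻¹ P
    rwa [inv_inv] at this

/-- `σ` maps `L(n P)` to `L(n σP)`. -/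
theorem map_mem_L_single (σ : E ≃ₐ[k] E) (P : Place k E) (n : ℤ) {z : E}
    (hz : z ∈ L (Finsupp.single P n : Divisor k E)) :
    σ z ∈ L (Finsupp.single (placeComap σ.symm P) n : Divisor k E) := by
  classical
  intro R
  have h := hz (placeComap σ R)
  rw [placeComap_val] at h
  refine h.trans_eq ?_
  congr 1
  by_cases hR : placeComap σ R = P
  · rw [hR, Finsupp.single_eq_same, (placeComap_eq_iff σ R P).mp hR, Finsupp.single_eq_same]
  · rw [Finsupp.single_eq_of_ne hR, Finsupp.single_eq_of_ne]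
    intro h'
    exact hR ((placeComap_eq_iff σ R P).mpr h')

theorem mul_mem_L_add' {D₁ D₂ : Divisor k E} {a b : E} (ha : a ∈ L D₁) (hb : b ∈ L D₂) :
    a * b ∈ L (D₁ + D₂) := by
  intro P
  rw [map_mul, Finsupp.add_apply, exp_add]
  exact mul_le_mul' (ha P) (hb P)

theorem pow_mem_L_nsmul {D : Divisor k E} {a : E} (ha : a ∈ L D) (N : ℕ) :
    a ^ N ∈ L (N • D) := by
  intro P
  rw [map_pow, Finsupp.smul_apply, exp_nsmul]
  exact pow_le_pow_left₀ zero_le (ha P) N

/-- A nonzero function in `L(N P₀)` vanishing on a set `S` of places other than `P₀` forces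
`∑_{R ∈ S} deg R ≤ N deg P₀`. -/
theorem sum_deg_le_of_mem_L (hE : IsFunctionField k E) (P₀ : Place k E) (N : ℕ) {x : E}
    (hx0 : x ≠ 0) (hx : x ∈ L (Finsupp.single P₀ (N : ℤ) : Divisor k E))
    (S : Finset (Place k E)) (hS : ∀ R ∈ S, R ≠ P₀ ∧ R.1 x < 1) :
    ∑ R ∈ S, R.deg ≤ N * P₀.deg := by
  classical
  set D : Divisor k E := Finsupp.single P₀ (N : ℤ) - ∑ R ∈ S, Finsupp.single R (1 : ℤ) with hD
  have hDR : ∀ R' : Place k E, (∑ R ∈ S, Finsupp.single R (1 : ℤ) : Divisor k E) R' =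
      if R' ∈ S then 1 else 0 := by
    intro R'
    rw [Finset.sum_apply']
    simp only [Finsupp.single_apply]
    rw [Finset.sum_ite_eq' S R']
  have hmem : x ∈ L D := by
    intro R'
    rw [hD, Finsupp.sub_apply, hDR]
    by_cases hR' : R' ∈ S
    · obtain ⟨hne, hlt⟩ := hS R' hR'
      rw [if_pos hR', Finsupp.single_eq_of_ne hne, zero_sub]
      exact (zm0_lt_one_iff _).mp hlt
    · rw [if_neg hR', sub_zero]
      exact hx R'
  have hdeg : 0 ≤ D.deg := by
    by_contra hneg
    push Not at hneg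
    have := L_eq_bot_of_deg_neg hE D hneg
    rw [this, Submodule.mem_bot] at hmem
    exact hx0 hmem
  have hdegD : D.deg = (N : ℤ) * P₀.deg - ∑ R ∈ S, (R.deg : ℤ) := by
    rw [hD, deg_sub, deg_single]
    congr 1
    have : ∀ T : Finset (Place k E), (∑ R ∈ T, Finsupp.single R (1 : ℤ) : Divisor k E).deg =
        ∑ R ∈ T, (R.deg : ℤ) := by
      intro T
      induction T using Finset.induction_on with
      | empty => simp [deg_zero]
      | insert R T hR ih =>
        rw [Finset.sum_insert hR, Finset.sum_insert hR, deg_add, ih, deg_single, one_mul]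
    exact this S
  rw [hdegD] at hdeg
  have : (∑ R ∈ S, (R.deg : ℤ)) ≤ (N : ℤ) * P₀.deg := by linarith
  exact_mod_cast this

/-- **Twisted Bombieri–Stepanov bound.** -/
theorem bombieri [Finite k] (hE : IsFunctionField k E) (σ : E ≃ₐ[k] E) (P₀ : Place k E)
    (hP₀ : P₀.deg = 1) (a : ℕ) (ha : (genus k E + 1) ^ 2 < Nat.card k ^ a)
    (S : Finset (Place k E)) (hS : ∀ R ∈ S, IsFrobAt k σ (2 * a) R) :
    ∑ R ∈ S, R.deg ≤ Nat.card k ^ (2 * a) + (2 * genus k E + 1) * Nat.card k ^ a := by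
  classical
  haveI := Fintype.ofFinite k
  set q := Nat.card k with hq
  set g := genus k E with hg
  set Q₀ := q ^ a with hQ₀
  obtain ⟨p, hchar⟩ := CharP.exists k
  haveI := hchar
  haveI hp : Fact p.Prime := ⟨CharP.char_is_prime k p⟩
  obtain ⟨f, -, hcard⟩ := FiniteField.card k p
  have hqp : q = p ^ (f : ℕ) := by rw [hq, Nat.card_eq_fintype_card, hcard]
  haveI : CharP E p := charP_of_injective_algebraMap (algebraMap k E).injective p
  have hQ₀p : Q₀ = p ^ ((f : ℕ) * a) := by rw [hQ₀, hqp, ← pow_mul]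
  have hgQ : g + 1 < Q₀ := by nlinarith
  set m := Q₀ - 1 with hm
  set n := Q₀ + 2 * g with hn
  set Dm : Divisor k E := Finsupp.single P₀ (m : ℤ) with hDm
  set Dn : Divisor k E := Finsupp.single P₀ (n : ℤ) with hDn
  have hdegm : Dm.deg = m := by rw [hDm, deg_single, hP₀]; simp
  have hdegn : Dn.deg = n := by rw [hDn, deg_single, hP₀]; simp
  have hℓm : (m : ℤ) + 1 - g ≤ ell Dm := by
    have := delta_le_genus hE Dm
    unfold delta at this
    rw [hdegm] at this
    linarith
  have hℓn : (ell Dn : ℤ) = n + 1 - g := by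
    have hge : 2 * (genus k E : ℤ) - 1 ≤ Dn.deg := by
      rw [hdegn, hn]
      push_cast
      omega
    rw [ell_eq_of_deg_ge hE Dn hge, hdegn]
  obtain ⟨r, hr⟩ : ∃ r, ell Dm = r + 1 := by
    refine Nat.exists_eq_succ_of_ne_zero ?_
    intro h0
    rw [h0] at hℓm
    have : (m : ℤ) = (Q₀ : ℤ) - 1 := by rw [hm]; push_cast [Nat.cast_sub (by omega : 1 ≤ Q₀)]; ring
    push_cast at hℓm
    omega
  obtain ⟨b, mm, hbmem, hbval, hmono, hmle, -, -, -⟩ :=
    exists_adapted_basis hE hP₀ Dm m hdegm (L Dm) le_rfl r hr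
  have hDmP : Dm P₀ = m := by rw [hDm, Finsupp.single_eq_same]
  -- the target of `B`
  set P₀' := placeComap σ.symm P₀ with hP₀'
  have hdegP₀' : P₀'.deg = 1 := by rw [hP₀', deg_placeComap, hP₀]
  set D' : Divisor k E := Q₀ • Dm + Finsupp.single P₀' (n : ℤ) with hD'
  have hdegD' : D'.deg = Q₀ * m + n := by
    rw [hD', deg_add, deg_nsmul, hdegm, deg_single, hdegP₀']
    push_cast; ring
  have hℓD' : (ell D' : ℤ) = Q₀ * m + n + 1 - g := by
    have hge : 2 * (genus k E : ℤ) - 1 ≤ D'.deg := by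
      rw [hdegD', hn]
      push_cast
      nlinarith [Int.natCast_nonneg Q₀, Int.natCast_nonneg m]
    rw [ell_eq_of_deg_ge hE D' hge, hdegD']
  -- the linear map `B`
  let W := Fin (r + 1) → L Dn
  let B₀ : W →ₗ[k] E := ∑ i, (LinearMap.mulLeft k (b i ^ Q₀)).comp
    (σ.toLinearMap.comp ((L Dn).subtype.comp (LinearMap.proj i)))
  have hB₀ : ∀ z : W, B₀ z = ∑ i, b i ^ Q₀ * σ (z i : E) := by
    intro z
    simp only [B₀, LinearMap.sum_apply, LinearMap.comp_apply, LinearMap.mulLeft_apply,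
      LinearMap.proj_apply, Submodule.subtype_apply, AlgEquiv.toLinearMap_apply]
    rfl
  have hB₀mem : ∀ z : W, B₀ z ∈ L D' := by
    intro z
    rw [hB₀]
    refine Submodule.sum_mem _ fun i _ => ?_
    exact mul_mem_L_add' (pow_mem_L_nsmul (hbmem i) Q₀) (map_mem_L_single σ P₀ n (z i).2)
  let B : W →ₗ[k] L D' := LinearMap.codRestrict (L D') B₀ hB₀mem
  haveI := finiteDimensional_L hE Dn
  haveI := finiteDimensional_L hE D'
  have hfrW : Module.finrank k W = (r + 1) * ell Dn := by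
    rw [Module.finrank_pi_fintype]
    simp only [Finset.sum_const, Finset.card_univ, Fintype.card_fin, smul_eq_mul]
    rfl
  have hlt : Module.finrank k (L D') < Module.finrank k W := by
    rw [hfrW]
    have h1 : (ell D' : ℤ) < ((r + 1 : ℕ) : ℤ) * (ell Dn : ℤ) := by
      rw [← hr, hℓD', hℓn]
      have hmZ : (m : ℤ) = (Q₀ : ℤ) - 1 := by
        rw [hm]; push_cast [Nat.cast_sub (by omega : 1 ≤ Q₀)]; ring
      have hnZ : (n : ℤ) = (Q₀ : ℤ) + 2 * g := by rw [hn]; push_cast; ring
      have hℓm' : (Q₀ : ℤ) - g ≤ ell Dm := by rw [hmZ] at hℓm; linarith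
      have hposn : (0 : ℤ) < (n : ℤ) + 1 - g := by
        rw [hnZ]
        linarith [Int.natCast_nonneg Q₀, Int.natCast_nonneg g]
      have hha : ((g : ℤ) + 1) ^ 2 < Q₀ := by exact_mod_cast ha
      calc (Q₀ : ℤ) * m + n + 1 - g < ((Q₀ : ℤ) - g) * ((n : ℤ) + 1 - g) := by
            rw [hmZ, hnZ]; nlinarith
        _ ≤ (ell Dm : ℤ) * ((n : ℤ) + 1 - g) := mul_le_mul_of_nonneg_right hℓm' hposn.le
    have h2 : ((ell D' : ℕ) : ℤ) < (((r + 1) * ell Dn : ℕ) : ℤ) := by push_cast; exact_mod_cast h1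
    exact_mod_cast h2
  have hker : LinearMap.ker B ≠ ⊥ := LinearMap.ker_ne_bot_of_finrank_lt hlt
  obtain ⟨z, hzker, hz0⟩ := Submodule.exists_mem_ne_zero_of_ne_bot hker
  have hBz : ∑ i, b i ^ Q₀ * σ (z i : E) = 0 := by
    have h1 : B z = 0 := hzker
    have h2 : ((B z : L D') : E) = 0 := by rw [h1]; rfl
    rw [← hB₀]
    exact h2
  -- the function `x`
  set x : E := ∑ i, b i * (z i : E) ^ Q₀ with hx
  have hb0 : ∀ i, b i ≠ 0 := by
    intro i h0
    have := hbval i
    rw [h0, map_zero] at this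
    exact exp_ne_zero this.symm
  have hx0 : x ≠ 0 := by
    rw [hx]
    apply sum_ne_zero_of_val_inj P₀.1
    · intro i _ j _ hi hj hv
      have hzi : (z i : E) ≠ 0 := fun h => hi (by rw [h, zero_pow (by omega), mul_zero])
      have hzj : (z j : E) ≠ 0 := fun h => hj (by rw [h, zero_pow (by omega), mul_zero])
      have hvi : P₀.1 (z i : E) ≠ 0 := (Valuation.ne_zero_iff _).mpr hzi
      have hvj : P₀.1 (z j : E) ≠ 0 := (Valuation.ne_zero_iff _).mpr hzj
      rw [map_mul, map_mul, map_pow, map_pow, hbval i, hbval j, ← exp_log hvi, ← exp_log hvj,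
        ← exp_nsmul, ← exp_nsmul, ← exp_add, ← exp_add, exp_inj, hDmP] at hv
      simp only [nsmul_eq_mul] at hv
      by_contra hij
      rcases lt_or_gt_of_ne hij with h | h
      · have h1 := hmono h
        have h2 := hmle j
        have h3 : ((mm j : ℤ) - mm i) = Q₀ * (log (P₀.1 (z j : E)) - log (P₀.1 (z i : E))) := by
          linarith
        have h4 : (0 : ℤ) < (mm j : ℤ) - mm i := by
          have : (mm i : ℤ) < mm j := by exact_mod_cast h1
          linarith
        have h5 : ((mm j : ℤ) - mm i) < Q₀ := by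
          have : (mm j : ℤ) ≤ m := by exact_mod_cast h2
          have hm' : (m : ℤ) < Q₀ := by rw [hm]; omega
          linarith [Int.natCast_nonneg (mm i)]
        rw [h3] at h4 h5
        have h6 : 0 < log (P₀.1 (z j : E)) - log (P₀.1 (z i : E)) := by
          by_contra hneg
          push Not at hneg
          have := mul_nonpos_of_nonneg_of_nonpos (Int.natCast_nonneg Q₀) hneg
          linarith
        nlinarith
      · have h1 := hmono h
        have h2 := hmle i
        have h3 : ((mm i : ℤ) - mm j) = Q₀ * (log (P₀.1 (z i : E)) - log (P₀.1 (z j : E))) := by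
          linarith
        have h4 : (0 : ℤ) < (mm i : ℤ) - mm j := by
          have : (mm j : ℤ) < mm i := by exact_mod_cast h1
          linarith
        have h5 : ((mm i : ℤ) - mm j) < Q₀ := by
          have : (mm i : ℤ) ≤ m := by exact_mod_cast h2
          have hm' : (m : ℤ) < Q₀ := by rw [hm]; omega
          linarith [Int.natCast_nonneg (mm j)]
        rw [h3] at h4 h5
        have h6 : 0 < log (P₀.1 (z i : E)) - log (P₀.1 (z j : E)) := by
          by_contra hneg
          push Not at hneg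
          have := mul_nonpos_of_nonneg_of_nonpos (Int.natCast_nonneg Q₀) hneg
          linarith
        nlinarith
    · by_contra hall
      push Not at hall
      apply hz0
      funext i
      have := hall i (Finset.mem_univ i)
      have h1 : (z i : E) ^ Q₀ = 0 := (mul_eq_zero.mp this).resolve_left (hb0 i)
      exact Subtype.ext (pow_eq_zero_iff (by omega) |>.mp h1)
  -- `x ∈ L((m + Q₀ n) P₀)`
  set N := m + Q₀ * n with hN
  have hxL : x ∈ L (Finsupp.single P₀ (N : ℤ) : Divisor k E) := by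
    rw [hx]
    refine Submodule.sum_mem _ fun i _ => ?_
    have h1 := mul_mem_L_add' (hbmem i) (pow_mem_L_nsmul (z i).2 Q₀)
    have h2 : Dm + Q₀ • Dn = Finsupp.single P₀ (N : ℤ) := by
      rw [hDm, hDn, Finsupp.smul_single, ← Finsupp.single_add, hN]
      congr 1
    rwa [h2] at h1
  -- vanishing at Frobenius places
  have hxS : ∀ R ∈ S, R ≠ P₀ → R.1 x < 1 := by
    intro R hR hne
    have hbR : ∀ i, R.1 (b i) ≤ 1 := by
      intro i
      have := hbmem i R
      have h2 : Dm R = 0 := by rw [hDm, Finsupp.single_eq_of_ne hne]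
      rwa [h2, exp_zero] at this
    have hzR : ∀ i, R.1 (z i : E) ≤ 1 := by
      intro i
      have := (z i).2 R
      have h2 : Dn R = 0 := by rw [hDn, Finsupp.single_eq_of_ne hne]
      rwa [h2, exp_zero] at this
    have hxQ : x ^ Q₀ = ∑ i, b i ^ Q₀ * ((z i : E) ^ (q ^ (2 * a)) - σ (z i : E)) := by
      have h1 : x ^ Q₀ = ∑ i, (b i * (z i : E) ^ Q₀) ^ Q₀ := by
        rw [hx, hQ₀p]
        exact sum_pow_char_pow _ _ _ _
      rw [h1]
      have h2 : ∑ i, b i ^ Q₀ * ((z i : E) ^ (q ^ (2 * a)) - σ (z i : E)) =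
          ∑ i, b i ^ Q₀ * (z i : E) ^ (q ^ (2 * a)) - ∑ i, b i ^ Q₀ * σ (z i : E) := by
        rw [← Finset.sum_sub_distrib]
        apply Finset.sum_congr rfl
        intro i _
        ring
      rw [h2, hBz, sub_zero]
      apply Finset.sum_congr rfl
      intro i _
      rw [mul_pow, ← pow_mul]
      congr 2
      rw [hQ₀, ← pow_add]
      congr 1
      ring
    have hlt : R.1 (x ^ Q₀) < 1 := by
      rw [hxQ]
      apply Valuation.map_sum_lt _ one_ne_zero
      intro i _
      rw [map_mul, map_pow]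
      calc R.1 (b i) ^ Q₀ * R.1 ((z i : E) ^ (q ^ (2 * a)) - σ (z i : E))
          ≤ 1 * R.1 ((z i : E) ^ (q ^ (2 * a)) - σ (z i : E)) :=
            mul_le_mul_left (pow_le_one₀ zero_le (hbR i)) _
        _ < 1 := by rw [one_mul]; exact hS R hR _ (hzR i)
    rw [map_pow] at hlt
    by_contra hge
    push Not at hge
    exact absurd hlt (not_lt.mpr (one_le_pow₀ hge))
  -- the count
  have hcount := sum_deg_le_of_mem_L hE P₀ N hx0 hxL (S.erase P₀) (by
    intro R hR
    rw [Finset.mem_erase] at hR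
    exact ⟨hR.1, hxS R hR.2 hR.1⟩)
  rw [hP₀, mul_one] at hcount
  have hle : ∑ R ∈ S, R.deg ≤ N + 1 := by
    by_cases hmem : P₀ ∈ S
    · rw [← Finset.add_sum_erase S _ hmem, hP₀]; omega
    · rw [Finset.erase_eq_of_notMem hmem] at hcount; omega
  refine hle.trans ?_
  have hQ₀1 : 1 ≤ Q₀ := by omega
  have hqq : q ^ (2 * a) = Q₀ * Q₀ := by rw [hQ₀, ← pow_add]; congr 1; ring
  rw [hN, hm, hn, hqq]
  have : Q₀ - 1 + Q₀ * (Q₀ + 2 * g) + 1 = Q₀ + Q₀ * (Q₀ + 2 * g) := by omega
  rw [this]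
  nlinarith

end Groth.Agent.Lib.Helper24.RH
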