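import Groth.Agent.Lib.Helper24.RH.BaseChange
import Groth.Agent.Lib.Helper24.FFExt.SepConst
import Groth.Agent.Lib.Helper24.FFExt.SepExt
import Groth.Agent.Lib.Helper18.Zeta.Galois
import Mathlib.FieldTheory.Finite.Extension
import Mathlib.RingTheory.AdjoinRoot

/-! # The Bombieri bound for an arbitrary function field over a finite field, after a suitable
constant field extension (helper24) -/

set_option autoImplicit false
set_option linter.style.haveILetI false

namespace Groth.Agent.Lib.Helper24.RH

open FunFld WithZero Groth.Agent.Lib.Helper18.FF Groth.Agent.Lib.Helper24.FFExt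

open scoped TensorProduct

universe u v

theorem exists_irreducible_natDegree' (k : Type u) [Field k] [Finite k] (d : ℕ) (hd : 0 < d) :
    ∃ g : Polynomial k, g.Monic ∧ Irreducible g ∧ g.natDegree = d := by
  obtain ⟨p, hp⟩ := CharP.exists k
  haveI := hp
  haveI : Fact p.Prime := ⟨CharP.char_is_prime k p⟩
  haveI : NeZero d := ⟨hd.ne'⟩
  obtain ⟨α, hα⟩ := Field.exists_primitive_element k (FiniteField.Extension k p d)
  have hint : IsIntegral k α := Algebra.IsIntegral.isIntegral α
  refine ⟨minpoly k α, minpoly.monic hint, minpoly.irreducible hint, ?_⟩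
  rw [← IntermediateField.adjoin.finrank hint, hα, IntermediateField.finrank_top',
    FiniteField.finrank_extension]

variable {k : Type u} {K : Type v} [Field k] [Field K] [Algebra k K]

/-- **The Bombieri bound for Frobenius places**, for levels divisible by a suitable `2 d`. -/
theorem bombieri_exists [Finite k] (hK : IsFunctionField k K) :
    ∃ d c : ℕ, 0 < d ∧ ∀ (σ : K ≃ₐ[k] K) (a : ℕ), (c + 1) ^ 2 < Nat.card k ^ (d * a) →
      ∀ S : Finset (Place k K), (∀ R ∈ S, IsFrobAt k σ (2 * (d * a)) R) →
        ∑ R ∈ S, R.deg ≤ Nat.card k ^ (2 * (d * a)) + (2 * c + 1) * Nat.card k ^ (d * a) := by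
  classical
  obtain ⟨P₁⟩ := exists_place hK
  set d := P₁.deg with hd
  have hdpos : 0 < d := deg_pos hK P₁
  obtain ⟨g, hmon, hirr, hdeg⟩ := exists_irreducible_natDegree' k d hdpos
  haveI : Fact (Irreducible g) := ⟨hirr⟩
  have hirrK := irreducible_map_of_algClosedIn hK.2 hmon hirr
  haveI : Fact (Irreducible (g.map (algebraMap k K))) := ⟨hirrK⟩
  have hg0 : g ≠ 0 := hirr.ne_zero
  haveI : FiniteDimensional k (AdjoinRoot g) := (AdjoinRoot.powerBasis hg0).finite
  haveI : Finite (AdjoinRoot g) := Module.finite_of_finite k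
  have hfr : Module.finrank k (AdjoinRoot g) = d := by
    rw [(AdjoinRoot.powerBasis hg0).finrank, AdjoinRoot.powerBasis_dim, hdeg]
  letI : Algebra (AdjoinRoot g) (AdjoinRoot (g.map (algebraMap k K))) :=
    (AdjoinRoot.map (algebraMap k K) g (g.map (algebraMap k K)) dvd_rfl).toAlgebra
  haveI : IsScalarTower k (AdjoinRoot g) (AdjoinRoot (g.map (algebraMap k K))) :=
    IsScalarTower.of_algebraMap_eq fun c => by
      show _ = AdjoinRoot.map (algebraMap k K) g (g.map (algebraMap k K)) dvd_rfl
        (algebraMap k (AdjoinRoot g) c)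
      rw [AdjoinRoot.algebraMap_eq, AdjoinRoot.map_of, IsScalarTower.algebraMap_apply k K,
        AdjoinRoot.algebraMap_eq]
  have hbij : Function.Bijective (Algebra.TensorProduct.productMap
      (IsScalarTower.toAlgHom k (AdjoinRoot g) (AdjoinRoot (g.map (algebraMap k K))))
      (IsScalarTower.toAlgHom k K (AdjoinRoot (g.map (algebraMap k K))))) := by
    constructor
    · have hF : IsField (AdjoinRoot g ⊗[k] K) := isField_tensor_of_isSeparable hK.2
      exact injective_of_isField hF (Algebra.TensorProduct.productMap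
        (IsScalarTower.toAlgHom k (AdjoinRoot g) (AdjoinRoot (g.map (algebraMap k K))))
        (IsScalarTower.toAlgHom k K (AdjoinRoot (g.map (algebraMap k K))))).toRingHom
    · intro z
      induction z using AdjoinRoot.induction_on with
      | ih p =>
        induction p using Polynomial.induction_on' with
        | add p q hp hq =>
          obtain ⟨a, ha⟩ := hp
          obtain ⟨b, hb⟩ := hq
          exact ⟨a + b, by rw [map_add, ha, hb, map_add]⟩
        | monomial n a =>
          refine ⟨(AdjoinRoot.root g ^ n) ⊗ₜ a, ?_⟩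
          rw [Algebra.TensorProduct.productMap_apply_tmul, IsScalarTower.coe_toAlgHom',
            IsScalarTower.coe_toAlgHom', map_pow]
          have h1 : algebraMap (AdjoinRoot g) (AdjoinRoot (g.map (algebraMap k K)))
              (AdjoinRoot.root g) = AdjoinRoot.root (g.map (algebraMap k K)) :=
            AdjoinRoot.map_root _ _ _ _
          rw [h1, ← Polynomial.C_mul_X_pow_eq_monomial, map_mul, map_pow, AdjoinRoot.mk_C,
            AdjoinRoot.mk_X, AdjoinRoot.algebraMap_eq, mul_comm]
  haveI : PerfectField k := inferInstance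
  have hg := isGeometric_of_perfectField hK
  have hK' : IsFunctionField (AdjoinRoot g) (AdjoinRoot (g.map (algebraMap k K))) :=
    isFunctionField_baseChange hbij hK hg
  -- a rational place of the extension
  haveI : IsGalois k (AdjoinRoot g) := inferInstance
  haveI : Algebra.IsAlgebraic k (AdjoinRoot g) := Algebra.IsAlgebraic.of_finite k _
  haveI := finiteDimensional_of_tensor hbij
  haveI := Groth.Agent.Lib.Helper18.Zeta.isGalois_of_tensor hbij
  obtain ⟨-, hdegQ⟩ := Groth.Agent.Lib.Helper18.Zeta.card_isOver_of_dvd hbij hK P₁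
    (by rw [hfr])
  obtain ⟨Q₁, hQ₁⟩ := exists_place_over (K' := AdjoinRoot (g.map (algebraMap k K))) hK P₁
  have hQ₁deg : (toAlg (AdjoinRoot g) Q₁).deg = 1 := by
    have h1 := hdegQ Q₁ hQ₁
    rw [deg_eq_mul_deg_toAlg (AdjoinRoot g) Q₁, hfr, ← hd] at h1
    exact Nat.eq_of_mul_eq_mul_left hdpos (by rw [h1, mul_one])
  have hcard : Nat.card (AdjoinRoot g) = Nat.card k ^ d := by
    rw [← hfr]; exact Module.natCard_eq_pow_finrank
  refine ⟨d, genus (AdjoinRoot g) (AdjoinRoot (g.map (algebraMap k K))), hdpos, ?_⟩
  intro σ a ha S hS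
  have := bombieri_baseChange hbij hK hK' (toAlg (AdjoinRoot g) Q₁) hQ₁deg σ a
    (by rw [hcard, ← pow_mul]; exact ha) S (by rw [hfr]; exact hS)
  rw [hcard, ← pow_mul, ← pow_mul] at this
  have e1 : d * (2 * a) = 2 * (d * a) := by ring
  rw [e1] at this
  exact this

end Groth.Agent.Lib.Helper24.RH
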