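import Groth.Agent.Lib.Helper24.RH.Main
import Groth.Agent.Lib.Helper18.Zeta.RecipRoots2
import Mathlib.Analysis.SpecialFunctions.Pow.Real
import Mathlib.Analysis.SpecialFunctions.Sqrt

/-! # The Riemann hypothesis for function fields over finite fields (helper24) -/

set_option autoImplicit false
set_option linter.style.haveILetI false

namespace Groth.Agent.Lib.Helper24.RH

open FunFld WithZero Groth.Agent.Lib.Helper18.FF Groth.Agent.Lib.Helper24.FFExt
  Groth.Agent.Lib.Helper24.Zeta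

universe u v

variable {k : Type u} {K : Type v} [Field k] [Field K] [Algebra k K]

/-- **The reciprocal roots of the numerator of the zeta function have absolute value at most
`√q`.** -/
theorem norm_alpha_le [Finite k] (hK : IsFunctionField k K) {ι : Type*} [Fintype ι] (α : ι → ℂ)
    (hα : PowerSeries.map (Int.castRingHom ℂ) (numerZ k K) =
      (∏ i, (1 - PowerSeries.C (α i) * PowerSeries.X) : PowerSeries ℂ)) (i : ι) :
    ‖α i‖ ≤ Real.sqrt (Nat.card k) := by
  obtain ⟨D, c, n₀, hD, hmain⟩ := weil_bound hK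
  set q := Nat.card k with hq
  have hq2 : 2 ≤ q := Finite.one_lt_card (α := k)
  set a₀ := (c + 1) ^ 2 with ha₀
  have ha₀pos : 0 < a₀ := by rw [ha₀]; positivity
  have hge : ∀ a : ℕ, a₀ ≤ a → (c + 1) ^ 2 < q ^ (D * a) := by
    intro a ha
    calc (c + 1) ^ 2 = a₀ := rfl
      _ ≤ a := ha
      _ < 2 ^ a := Nat.lt_two_pow_self
      _ ≤ q ^ a := Nat.pow_le_pow_left hq2 a
      _ ≤ q ^ (D * a) := Nat.pow_le_pow_right (by omega) (Nat.le_mul_of_pos_left a hD)
  set r₀ := 2 * (D * a₀) with hr₀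
  have hr₀pos : 0 < r₀ := Nat.mul_pos (by norm_num) (Nat.mul_pos hD ha₀pos)
  set B : ℝ := (q : ℝ) ^ (D * a₀) with hB
  have hqR : (0 : ℝ) < q := by exact_mod_cast (by omega : 0 < q)
  have hBpos : 0 < B := pow_pos hqR _
  set C : ℝ := (n₀ : ℝ) * (2 * c + 1) with hC
  have hbound : ∀ s : ℕ, 0 < s → ‖∑ j, (α j ^ r₀) ^ s‖ ≤ C * B ^ s := by
    intro s hs
    have hrs : r₀ * s = 2 * (D * (a₀ * s)) := by rw [hr₀]; ring
    have hrspos : 0 < r₀ * s := Nat.mul_pos hr₀pos hs
    have h1 := Nr_eq hK α hα (r₀ * s) hrspos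
    have h2 := hmain (a₀ * s) (Nat.mul_pos ha₀pos hs) (hge _ (Nat.le_mul_of_pos_right a₀ hs))
    rw [← hrs] at h2
    have h3 : ∑ j, (α j ^ r₀) ^ s =
        (((q : ℝ) ^ (r₀ * s) + 1 - (Nr k K (r₀ * s) : ℝ) : ℝ) : ℂ) := by
      push_cast
      simp_rw [← pow_mul]
      rw [h1]
      ring
    rw [h3, Complex.norm_real, Real.norm_eq_abs, abs_sub_comm]
    have h4 : (Nr k K (r₀ * s) : ℝ) - ((q : ℝ) ^ (r₀ * s) + 1) =
        (Nr k K (r₀ * s) : ℝ) - (q : ℝ) ^ (r₀ * s) - 1 := by ring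
    rw [h4]
    refine h2.trans (le_of_eq ?_)
    rw [hC, hB, ← pow_mul]
    congr 2
    ring
  have h5 := norm_le_of_powerSum_bound (fun j => α j ^ r₀) B C hBpos hbound i
  simp only [norm_pow] at h5
  have hsq : Real.sqrt (q : ℝ) ^ r₀ = B := by
    rw [hr₀, pow_mul, Real.sq_sqrt hqR.le, hB]
  rw [← hsq] at h5
  exact (pow_le_pow_iff_left₀ (norm_nonneg _) (Real.sqrt_nonneg _) hr₀pos.ne').mp h5

/-- Coercion of a product of linear polynomials to power series. -/
theorem coe_prod_one_sub {ι : Type*} [Fintype ι] (α : ι → ℂ) :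
    ((∏ i, (1 - Polynomial.C (α i) * Polynomial.X) : Polynomial ℂ) : PowerSeries ℂ) =
      ∏ i, (1 - PowerSeries.C (α i) * PowerSeries.X) := by
  rw [← Polynomial.coeToPowerSeries.ringHom_apply, map_prod]
  apply Finset.prod_congr rfl
  intro i _
  rw [Polynomial.coeToPowerSeries.ringHom_apply]
  simp

/-- The reciprocal roots, with their absolute value. -/
theorem exists_roots_norm [Finite k] (hK : IsFunctionField k K) :
    ∃ α : Fin (2 * genus k K) → ℂ,
      PowerSeries.map (Int.castRingHom ℂ) (numerZ k K) =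
        ((∏ i, (1 - Polynomial.C (α i) * Polynomial.X) : Polynomial ℂ) : PowerSeries ℂ) ∧
      ∀ i, ‖α i‖ = Real.sqrt (Nat.card k) := by
  obtain ⟨α, -, hα, hpair⟩ := Groth.Agent.Lib.Helper18.Zeta.exists_reciprocal_roots hK
  refine ⟨α, hα, ?_⟩
  have hα' : PowerSeries.map (Int.castRingHom ℂ) (numerZ k K) =
      (∏ i, (1 - PowerSeries.C (α i) * PowerSeries.X) : PowerSeries ℂ) := by
    rw [hα, coe_prod_one_sub]
  have hle := norm_alpha_le hK α hα'
  intro i
  refine le_antisymm (hle i) ?_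
  have hq : (0 : ℝ) < Nat.card k := by
    have : 0 < Nat.card k := Nat.card_pos
    exact_mod_cast this
  have h1 : ‖α i‖ * ‖α (Fin.rev i)‖ = (Nat.card k : ℝ) := by
    rw [← norm_mul, hpair i]
    simp
  have h2 := hle (Fin.rev i)
  have hs : 0 < Real.sqrt (Nat.card k : ℝ) := Real.sqrt_pos.mpr hq
  have h3 : Real.sqrt (Nat.card k : ℝ) * Real.sqrt (Nat.card k : ℝ) = Nat.card k :=
    Real.mul_self_sqrt hq.le
  by_contra hlt
  push Not at hlt
  have : ‖α i‖ * ‖α (Fin.rev i)‖ < Real.sqrt (Nat.card k : ℝ) * Real.sqrt (Nat.card k : ℝ) := by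
    calc ‖α i‖ * ‖α (Fin.rev i)‖ ≤ ‖α i‖ * Real.sqrt (Nat.card k : ℝ) :=
          mul_le_mul_of_nonneg_left h2 (norm_nonneg _)
      _ < Real.sqrt (Nat.card k : ℝ) * Real.sqrt (Nat.card k : ℝ) :=
          mul_lt_mul_of_pos_right hlt hs
  rw [h1, h3] at this
  exact lt_irrefl _ this

/-- **The Riemann hypothesis for function fields over finite fields.** -/
theorem riemann_hypothesis [Finite k] (hK : IsFunctionField k K) (p : Polynomial ℤ)
    (hp : (p : PowerSeries ℤ) = numerZ k K) (z : ℂ)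
    (hz : (p.map (Int.castRingHom ℂ)).IsRoot z) :
    ‖z‖ ^ 2 * (Nat.card k : ℝ) = 1 := by
  obtain ⟨α, hα, hnorm⟩ := exists_roots_norm hK
  have h1 : ((p.map (Int.castRingHom ℂ) : Polynomial ℂ) : PowerSeries ℂ) =
      ((∏ i, (1 - Polynomial.C (α i) * Polynomial.X) : Polynomial ℂ) : PowerSeries ℂ) := by
    rw [← hα, ← hp]
    ext n
    simp [Polynomial.coeff_coe]
  have h2 : p.map (Int.castRingHom ℂ) = ∏ i, (1 - Polynomial.C (α i) * Polynomial.X) :=
    Polynomial.coe_injective ℂ h1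
  rw [h2, Polynomial.IsRoot.def, Polynomial.eval_prod, Finset.prod_eq_zero_iff] at hz
  obtain ⟨i, -, hi⟩ := hz
  simp only [Polynomial.eval_sub, Polynomial.eval_one, Polynomial.eval_mul, Polynomial.eval_C,
    Polynomial.eval_X] at hi
  have h3 : α i * z = 1 := by linear_combination -hi
  have h4 : ‖α i‖ * ‖z‖ = 1 := by rw [← norm_mul, h3, norm_one]
  rw [hnorm i] at h4
  have hq : (0 : ℝ) ≤ Nat.card k := Nat.cast_nonneg _
  have h5 : Real.sqrt (Nat.card k : ℝ) ^ 2 = Nat.card k := Real.sq_sqrt hq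
  calc ‖z‖ ^ 2 * (Nat.card k : ℝ) = (Real.sqrt (Nat.card k : ℝ) * ‖z‖) ^ 2 := by
        rw [mul_pow, h5]; ring
    _ = 1 := by rw [h4, one_pow]

theorem Nr_one [Finite k] (hK : IsFunctionField k K) :
    Nr k K 1 = Nat.card {P : Place k K // P.deg = 1} := by
  classical
  rw [Nr_eq_sum hK (r := 1) (n := 1) one_pos le_rfl]
  have h1 : ∀ P ∈ (Pl hK 1).filter (fun P => P.deg ∣ 1), P.deg = 1 := by
    intro P hP
    exact Nat.dvd_one.mp (Finset.mem_filter.mp hP).2
  rw [Finset.sum_congr rfl h1, Finset.sum_const, smul_eq_mul, mul_one]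
  symm
  apply Nat.subtype_card
  intro P
  rw [Finset.mem_filter, mem_Pl]
  constructor
  · intro h; exact Nat.dvd_one.mp h.2
  · intro h; rw [h]; exact ⟨le_rfl, dvd_rfl⟩

/-- **The Hasse–Weil bound.** -/
theorem hasse_weil [Finite k] (hK : IsFunctionField k K) :
    |(Nat.card {P : Place k K // P.deg = 1} : ℝ) - (Nat.card k : ℝ) - 1| ≤
      2 * (genus k K : ℝ) * Real.sqrt (Nat.card k : ℝ) := by
  obtain ⟨α, hα, hnorm⟩ := exists_roots_norm hK
  have hα' : PowerSeries.map (Int.castRingHom ℂ) (numerZ k K) =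
      (∏ i, (1 - PowerSeries.C (α i) * PowerSeries.X) : PowerSeries ℂ) := by
    rw [hα, coe_prod_one_sub]
  have h1 := Nr_eq hK α hα' 1 one_pos
  rw [Nr_one hK] at h1
  simp only [pow_one] at h1
  have h2 : ∑ i, α i = (((Nat.card k : ℝ) + 1 -
      (Nat.card {P : Place k K // P.deg = 1} : ℝ) : ℝ) : ℂ) := by
    push_cast
    rw [h1]; ring
  have h3 : ‖∑ i, α i‖ ≤ ∑ i, ‖α i‖ := norm_sum_le _ _
  rw [h2, Complex.norm_real, Real.norm_eq_abs, abs_sub_comm] at h3
  have h4 : ∑ i : Fin (2 * genus k K), ‖α i‖ =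
      2 * (genus k K : ℝ) * Real.sqrt (Nat.card k : ℝ) := by
    rw [Finset.sum_congr rfl (fun i _ => hnorm i), Finset.sum_const, Finset.card_univ,
      Fintype.card_fin, nsmul_eq_mul]
    push_cast
    ring
  rw [h4] at h3
  have h5 : (Nat.card {P : Place k K // P.deg = 1} : ℝ) - ((Nat.card k : ℝ) + 1) =
      (Nat.card {P : Place k K // P.deg = 1} : ℝ) - (Nat.card k : ℝ) - 1 := by ring
  rw [h5] at h3
  exact h3

end Groth.Agent.Lib.Helper24.RH
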