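import Groth.Agent.Lib.Helper24.RH.Bombieri
import Groth.Agent.Lib.Helper24.FFExt.Inertia2
import Groth.Agent.Lib.Helper24.FFExt.InertiaField
import Groth.Agent.Lib.Helper24.FFExt.Ramified

/-! # Frobenius elements at places of a Galois extension of function fields over a finite field
(helper24) -/

set_option autoImplicit false
set_option linter.style.haveILetI false

namespace Groth.Agent.Lib.Helper24.RH

open FunFld WithZero Polynomial Groth.Agent.Lib.Helper18.FF Groth.Agent.Lib.Helper24.FFExt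

open scoped Pointwise

universe u v w

theorem pow_card_pow_mul_eq {F : Type*} [Field F] [Finite F] {q d : ℕ}
    (hcard : Nat.card F = q ^ d) (s : ℕ) (y : F) : y ^ (q ^ (d * s)) = y := by
  haveI := Fintype.ofFinite F
  have h1 : ∀ y : F, y ^ (q ^ d) = y := by
    intro y
    rw [← hcard, Nat.card_eq_fintype_card]
    exact FiniteField.pow_card y
  induction s with
  | zero => simp
  | succ s ih =>
    rw [Nat.mul_succ, pow_add, pow_mul, ih, h1]

/-- A finite field with `q^d` elements all of whose elements satisfy `y^(q^r) = y` has `d ∣ r`. -/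
theorem dvd_of_forall_pow_card_pow_eq {F : Type*} [Field F] [Finite F] {q d r : ℕ} (hq : 1 < q)
    (hcard : Nat.card F = q ^ d) (h : ∀ y : F, y ^ (q ^ r) = y) : d ∣ r := by
  classical
  haveI := Fintype.ofFinite F
  rcases Nat.eq_zero_or_pos d with hd | hd
  · rw [hd, pow_zero] at hcard
    have := Finite.one_lt_card (α := F)
    omega
  set t := r % d with ht
  have htd : t < d := Nat.mod_lt r hd
  have hr : r = d * (r / d) + t := (Nat.div_add_mod r d).symm
  have h2 : ∀ y : F, y ^ (q ^ t) = y := by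
    intro y
    have := h y
    rw [hr, pow_add, pow_mul, pow_card_pow_mul_eq hcard] at this
    exact this
  by_contra hnd
  have ht0 : t ≠ 0 := fun h0 => hnd (Nat.dvd_of_mod_eq_zero (ht ▸ h0))
  have hne := FiniteField.X_pow_card_pow_sub_X_ne_zero F ht0 hq
  have hdeg := FiniteField.X_pow_card_pow_sub_X_natDegree_eq F ht0 hq
  have hsub : (Finset.univ : Finset F).val ⊆ (X ^ q ^ t - X : F[X]).roots := by
    intro y _
    rw [mem_roots hne, IsRoot.def, eval_sub, eval_pow, eval_X, h2 y, sub_self]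
  have hle := card_le_degree_of_subset_roots hsub
  rw [hdeg, Finset.card_univ, ← Nat.card_eq_fintype_card, hcard] at hle
  have := Nat.pow_lt_pow_right hq htd
  omega

theorem finite_residueField' {k : Type u} {K : Type v} [Field k] [Field K] [Algebra k K] [Finite k]
    (hK : IsFunctionField k K) (P : Place k K) : Finite (IsLocalRing.ResidueField P.O) := by
  haveI := finiteDimensional_residueField hK P
  exact Module.finite_of_finite k

theorem natCard_residueField' {k : Type u} {K : Type v} [Field k] [Field K] [Algebra k K]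
    [Finite k] (hK : IsFunctionField k K) (P : Place k K) :
    Nat.card (IsLocalRing.ResidueField P.O) = Nat.card k ^ P.deg := by
  haveI := finiteDimensional_residueField hK P
  exact Module.natCard_eq_pow_finrank

variable {k : Type u} {K : Type v} {E : Type w} [Field k] [Field K] [Field E] [Algebra k K]
  [Algebra K E] [Algebra k E] [IsScalarTower k K E]

/-- A Frobenius place for `σ` fixing `K` lies over a place of degree dividing `r`. -/
theorem deg_dvd_of_isFrobAt [Finite k] (hK : IsFunctionField k K) {Q : Place k E} {P : Place k K}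
    (h : IsOver Q P) (σ : E ≃ₐ[K] E) {r : ℕ} (hF : IsFrobAt k σ r Q) : P.deg ∣ r := by
  haveI := finite_residueField' hK P
  apply dvd_of_forall_pow_card_pow_eq (F := IsLocalRing.ResidueField P.O)
    (Finite.one_lt_card (α := k)) (natCard_residueField' hK P)
  intro y
  obtain ⟨x, hx, rfl⟩ := res_surjective P y
  have hxQ : Q.1 (algebraMap K E x) ≤ 1 := (isOver_le_one_iff h x).mpr hx
  have h1 := hF _ hxQ
  rw [σ.commutes, ← map_pow, ← map_sub, isOver_lt_one_iff h] at h1
  have hpow : P.1 (x ^ (Nat.card k ^ r)) ≤ 1 := by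
    rw [map_pow]; exact pow_le_one₀ zero_le hx
  have hle : P.1 (x ^ (Nat.card k ^ r) - x) ≤ 1 := h1.le
  have h2 := (res_eq_zero_iff P _ hle).mpr h1
  have h3 : res P (x ^ (Nat.card k ^ r) - x) hle =
      (res P x hx) ^ (Nat.card k ^ r) - res P x hx := by
    show IsLocalRing.residue P.O ⟨x ^ (Nat.card k ^ r) - x, hle⟩ =
      (IsLocalRing.residue P.O ⟨x, hx⟩) ^ (Nat.card k ^ r) - IsLocalRing.residue P.O ⟨x, hx⟩
    rw [← map_pow, ← map_sub]
    rfl
  rw [h3, sub_eq_zero] at h2
  exact h2

/-- **Existence of Frobenius elements.** -/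
theorem exists_isFrobAt [Finite k] [FiniteDimensional K E] [IsGalois K E]
    (hK : IsFunctionField k K) {Q : Place k E} {P : Place k K} (h : IsOver Q P) {r : ℕ}
    (hr : P.deg ∣ r) :
    ∃ σ : E ≃ₐ[K] E, placeComap σ Q = Q ∧ IsFrobAt k σ r Q := by
  classical
  haveI := Fintype.ofFinite k
  letI alg : Algebra (IsLocalRing.ResidueField P.O) (IsLocalRing.ResidueField Q.O) :=
    (IsLocalRing.ResidueField.map (overRingHom h)).toAlgebra
  set F := IsLocalRing.ResidueField Q.O with hF
  set D := (Q.O).decompositionSubgroup K with hD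
  have hQpos : 0 < Q.deg := ((IsFunctionField.weakFF hK).of_finite (K' := E)).deg_pos Q
  haveI hfdF : Module.Finite k F := Module.finite_of_finrank_pos hQpos
  haveI hfinF : Finite F := Module.finite_of_finite k
  haveI := finite_residueField' hK P
  -- the characteristic
  obtain ⟨p, hchar⟩ := CharP.exists k
  haveI := hchar
  haveI hp : Fact p.Prime := ⟨CharP.char_is_prime k p⟩
  obtain ⟨f, -, hcard⟩ := FiniteField.card k p
  have hqp : Nat.card k = p ^ (f : ℕ) := by rw [Nat.card_eq_fintype_card, hcard]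
  haveI : CharP F p := charP_of_injective_algebraMap (algebraMap k F).injective p
  have hqr : Nat.card k ^ r = p ^ ((f : ℕ) * r) := by rw [hqp, ← pow_mul]
  set φ : F →+* F := iterateFrobenius F p ((f : ℕ) * r) with hφ
  have hφapp : ∀ y : F, φ y = y ^ (Nat.card k ^ r) := by
    intro y
    rw [hφ, iterateFrobenius_def, hqr]
  have hbij : Function.Bijective φ := Finite.injective_iff_bijective.mp φ.injective
  let φe : F ≃+* F := RingEquiv.ofBijective φ hbij
  -- `φ` fixes the fixed field of `D`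
  haveI : Algebra.IsSeparable (IsLocalRing.ResidueField P.O) F := by
    haveI : Module.Finite (IsLocalRing.ResidueField P.O) F := Module.Finite.of_finite
    infer_instance
  have hfix : ∀ y : FixedPoints.subfield D F, φe (algebraMap _ F y) = algebraMap _ F y := by
    rintro ⟨y, hy⟩
    show φ y = y
    have hmem := fixed_mem_range h y (Algebra.IsSeparable.isSeparable _ y) (fun σ => hy σ)
    obtain ⟨y₀, rfl⟩ := hmem
    obtain ⟨s, rfl⟩ := hr
    rw [hφapp, ← map_pow, pow_card_pow_mul_eq (natCard_residueField' hK P)]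
  obtain ⟨σ, hσ⟩ := FixedPoints.toAlgAut_surjective D F (AlgEquiv.ofRingEquiv (f := φe) hfix)
  have hσapp : ∀ y : F, σ • y = y ^ (Nat.card k ^ r) := by
    intro y
    have := congrArg (fun τ : F ≃ₐ[FixedPoints.subfield D F] F => τ y) hσ
    exact this.trans (hφapp y)
  refine ⟨σ.1, (mem_decomposition_iff Q σ.1).mp σ.2, ?_⟩
  intro x hx
  obtain ⟨hw', heq⟩ := smul_res Q σ x hx
  have hpow : Q.1 (x ^ (Nat.card k ^ r)) ≤ 1 := by
    rw [map_pow]; exact pow_le_one₀ zero_le hx
  have hle : Q.1 (x ^ (Nat.card k ^ r) - σ.1 x) ≤ 1 :=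
    (Valuation.map_sub _ _ _).trans (max_le hpow hw')
  rw [← res_eq_zero_iff Q _ hle]
  have h3 : res Q (x ^ (Nat.card k ^ r) - σ.1 x) hle =
      (res Q x hx) ^ (Nat.card k ^ r) - res Q (σ.1 x) hw' := by
    show IsLocalRing.residue Q.O ⟨x ^ (Nat.card k ^ r) - σ.1 x, hle⟩ =
      (IsLocalRing.residue Q.O ⟨x, hx⟩) ^ (Nat.card k ^ r) - IsLocalRing.residue Q.O ⟨σ.1 x, hw'⟩
    rw [← map_pow, ← map_sub]
    rfl
  rw [h3, ← heq, hσapp, sub_self]

theorem isSeparable_residueField [Finite k] [FiniteDimensional K E] (hK : IsFunctionField k K)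
    (Q : Place k E) : Algebra.IsSeparable k (IsLocalRing.ResidueField Q.O) := by
  have hQpos : 0 < Q.deg := ((IsFunctionField.weakFF hK).of_finite (K' := E)).deg_pos Q
  haveI hfdF : Module.Finite k (IsLocalRing.ResidueField Q.O) := Module.finite_of_finrank_pos hQpos
  haveI : Algebra.IsAlgebraic k (IsLocalRing.ResidueField Q.O) :=
    @Algebra.IsAlgebraic.of_finite k _ _ _ _ _ hfdF
  exact Algebra.IsAlgebraic.isSeparable_of_perfectField

/-- **The number of Frobenius elements at `Q`** is the ramification index. -/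
theorem card_isFrobAt [Finite k] [FiniteDimensional K E] [IsGalois K E]
    (hK : IsFunctionField k K) {Q : Place k E} {P : Place k K} {e : ℕ} (he : IsOverWith Q P e)
    {r : ℕ} (hr : P.deg ∣ r) :
    Nat.card {σ : E ≃ₐ[K] E // IsFrobAt k σ r Q} = e := by
  classical
  have h := isOverWith_isOver he
  obtain ⟨σ₀, hσ₀Q, hσ₀⟩ := exists_isFrobAt hK h hr
  haveI := isSeparable_residueField (E := E) hK Q
  have hcard := card_inertia hK he
  set I' := ((Q.O).inertiaSubgroup K).map ((Q.O).decompositionSubgroup K).subtype with hI'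
  have hcard' : Nat.card I' = e := by
    rw [hI', Subgroup.card_map_of_injective (Subgroup.subtype_injective _)]
    exact hcard
  rw [← hcard']
  symm
  have hσ₀inv : placeComap σ₀⁻¹ Q = Q := by
    have := placeComap_inv_placeComap σ₀ Q
    rwa [hσ₀Q] at this
  have hmemF : ∀ τ : I', IsFrobAt k (σ₀ * τ.1 : E ≃ₐ[K] E) r Q := by
    intro τ x hx
    have h1 := (mem_inertia_iff Q τ.1).mp τ.2 x hx
    have h2 : Q.1 (σ₀ (x - τ.1 x)) < 1 := by
      have : Q.1 (σ₀ (x - τ.1 x)) = (placeComap σ₀ Q).1 (x - τ.1 x) := rfl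
      rw [this, hσ₀Q, ← Valuation.map_neg, neg_sub]
      exact lt_of_le_of_lt h1 exp_neg_one_lt_one
    have h3 : x ^ (Nat.card k ^ r) - (σ₀ * τ.1 : E ≃ₐ[K] E) x =
        (x ^ (Nat.card k ^ r) - σ₀ x) + σ₀ (x - τ.1 x) := by
      rw [AlgEquiv.mul_apply, map_sub]; ring
    rw [h3]
    exact lt_of_le_of_lt (Valuation.map_add _ _ _) (max_lt (hσ₀ x hx) h2)
  apply Nat.card_eq_of_bijective (fun τ : I' => (⟨σ₀ * τ.1, hmemF τ⟩ :
    {σ : E ≃ₐ[K] E // IsFrobAt k σ r Q}))
  constructor
  · intro τ τ' hττ'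
    have := congrArg Subtype.val hττ'
    exact Subtype.ext (mul_left_cancel this)
  · rintro ⟨σ, hσ⟩
    have hτ : σ₀⁻¹ * σ ∈ I' := by
      rw [hI', mem_inertia_iff]
      intro x hx
      have h1 : Q.1 (σ x - σ₀ x) < 1 := by
        have : σ x - σ₀ x = (x ^ (Nat.card k ^ r) - σ₀ x) - (x ^ (Nat.card k ^ r) - σ x) := by ring
        rw [this]
        exact lt_of_le_of_lt (Valuation.map_sub _ _ _) (max_lt (hσ₀ x hx) (hσ x hx))
      have h2 : (σ₀⁻¹ * σ : E ≃ₐ[K] E) x - x = σ₀⁻¹ (σ x - σ₀ x) := by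
        rw [AlgEquiv.mul_apply, map_sub]
        congr 1
        exact (AlgEquiv.symm_apply_apply σ₀ x).symm
      rw [h2]
      have : Q.1 (σ₀⁻¹ (σ x - σ₀ x)) = (placeComap σ₀⁻¹ Q).1 (σ x - σ₀ x) := rfl
      rw [this, hσ₀inv]
      exact (zm0_lt_one_iff _).mp h1
    refine ⟨⟨σ₀⁻¹ * σ, hτ⟩, ?_⟩
    apply Subtype.ext
    show σ₀ * (σ₀⁻¹ * σ) = σ
    rw [mul_inv_cancel_left]

end Groth.Agent.Lib.Helper24.RH
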