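import Groth.Agent.Lib.Helper24.Zeta.ClassNum

/-! # The numbers `N_r` of a function field over a finite field and the identity
`n a_n = ∑ N_r a_{n-r}` (helper24) -/

set_option autoImplicit false
set_option linter.style.haveILetI false

namespace Groth.Agent.Lib.Helper24.RH

open FunFld WithZero Groth.Agent.Lib.Helper18.FF Groth.Agent.Lib.Helper24.Zeta

universe u v

variable {k : Type u} {K : Type v} [Field k] [Field K] [Algebra k K]

/-- `N_r`: the sum of the degrees of the places whose degree divides `r`. -/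
noncomputable def Nr (k : Type u) (K : Type v) [Field k] [Field K] [Algebra k K] (r : ℕ) : ℕ :=
  ∑ᶠ P : Place k K, if P.deg ∣ r then P.deg else 0

variable [Finite k]

/-- The finite set of places of degree at most `n`. -/
noncomputable def Pl (hK : IsFunctionField k K) (n : ℕ) : Finset (Place k K) :=
  (finite_places_deg_le hK n).toFinset

theorem mem_Pl (hK : IsFunctionField k K) {n : ℕ} {P : Place k K} : P ∈ Pl hK n ↔ P.deg ≤ n := by
  rw [Pl, Set.Finite.mem_toFinset]; rfl

theorem Nr_eq_sum (hK : IsFunctionField k K) {r n : ℕ} (hr : 0 < r) (hrn : r ≤ n) :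
    Nr k K r = ∑ P ∈ (Pl hK n).filter (fun P => P.deg ∣ r), P.deg := by
  classical
  rw [Nr, Finset.sum_filter]
  apply finsum_eq_sum_of_support_subset
  intro P hP
  rw [Function.mem_support] at hP
  rw [Finset.mem_coe, mem_Pl]
  by_cases h : P.deg ∣ r
  · exact (Nat.le_of_dvd hr h).trans hrn
  · rw [if_neg h] at hP; exact absurd rfl hP

theorem finite_effSet (hK : IsFunctionField k K) (n : ℕ) :
    {D : Divisor k K | 0 ≤ D ∧ D.deg = n}.Finite := by
  exact Set.finite_coe_iff.mp (finite_effDiv hK n)

/-- The finite set of effective divisors of degree `n`. -/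
noncomputable def Eff (hK : IsFunctionField k K) (n : ℕ) : Finset (Divisor k K) :=
  (finite_effSet hK n).toFinset

theorem mem_Eff (hK : IsFunctionField k K) {n : ℕ} {D : Divisor k K} :
    D ∈ Eff hK n ↔ 0 ≤ D ∧ D.deg = n := by
  rw [Eff, Set.Finite.mem_toFinset]; rfl

theorem card_Eff (hK : IsFunctionField k K) (n : ℕ) : (Eff hK n).card = effDivCount k K n := by
  rw [Eff, ← Set.ncard_eq_toFinset_card _ (finite_effSet hK n), ← Nat.card_coe_set_eq]
  rfl

theorem deg_eq_sum_Pl (hK : IsFunctionField k K) {n : ℕ} {D : Divisor k K} (hD : D ∈ Eff hK n) :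
    (n : ℤ) = ∑ P ∈ Pl hK n, D P * (P.deg : ℤ) := by
  classical
  obtain ⟨h0, hdeg⟩ := (mem_Eff hK).mp hD
  rw [← hdeg, Divisor.deg, Finsupp.sum]
  apply Finset.sum_subset
  · intro P hP
    rw [mem_Pl]
    exact (eff_bound hK h0 hdeg P (Finsupp.mem_support_iff.mp hP)).1
  · intro P _ hP
    rw [Finsupp.notMem_support_iff.mp hP, zero_mul]

theorem coeff_eq_sum_Icc (hK : IsFunctionField k K) {n : ℕ} {D : Divisor k K}
    (hD : D ∈ Eff hK n) (P : Place k K) :
    D P = ∑ j ∈ Finset.Icc 1 n, if (j : ℤ) ≤ D P then (1 : ℤ) else 0 := by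
  classical
  obtain ⟨h0, hdeg⟩ := (mem_Eff hK).mp hD
  have hP0 : 0 ≤ D P := h0 P
  have hPn : D P ≤ n := by
    by_cases h : D P = 0
    · rw [h]; exact Int.natCast_nonneg n
    · exact (eff_bound hK h0 hdeg P h).2
  rw [Finset.sum_boole]
  have : (Finset.Icc 1 n).filter (fun j : ℕ => (j : ℤ) ≤ D P) = Finset.Icc 1 (D P).toNat := by
    ext j
    simp only [Finset.mem_filter, Finset.mem_Icc]
    omega
  rw [this, Nat.card_Icc]
  omega

omit [Finite k] in
theorem mul_deg_le_deg' {D : Divisor k K} (hD : 0 ≤ D) (P : Place k K) :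
    D P * (P.deg : ℤ) ≤ D.deg := by
  classical
  have h1 : 0 ≤ D - Finsupp.single P (D P) := by
    intro Q
    rw [Finsupp.zero_apply, Finsupp.sub_apply]
    by_cases hQ : Q = P
    · subst hQ
      rw [Finsupp.single_eq_same, sub_self]
    · rw [Finsupp.single_eq_of_ne hQ, sub_zero]
      exact hD Q
  have h2 := deg_nonneg_of_nonneg h1
  rw [deg_sub, deg_single] at h2
  linarith

/-- Effective divisors of degree `n` that contain `j P` correspond to effective divisors of
degree `n - j deg P`. -/
theorem card_filter_ge (hK : IsFunctionField k K) (n j : ℕ) (P : Place k K) :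
    ((Eff hK n).filter (fun D => (j : ℤ) ≤ D P)).card =
      if j * P.deg ≤ n then (Eff hK (n - j * P.deg)).card else 0 := by
  classical
  split_ifs with h
  · apply Finset.card_nbij' (fun D => D - Finsupp.single P (j : ℤ))
      (fun D => D + Finsupp.single P (j : ℤ))
    · intro D hD
      rw [Finset.mem_coe, Finset.mem_filter, mem_Eff] at hD
      obtain ⟨⟨h0, hdeg⟩, hj⟩ := hD
      rw [Finset.mem_coe, mem_Eff]
      constructor
      · intro Q
        rw [Finsupp.zero_apply, Finsupp.sub_apply]
        by_cases hQ : Q = P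
        · subst hQ
          rw [Finsupp.single_eq_same]; omega
        · rw [Finsupp.single_eq_of_ne hQ, sub_zero]; exact h0 Q
      · rw [deg_sub, deg_single, hdeg]
        push_cast [Nat.cast_sub h]
        ring
    · intro D hD
      rw [Finset.mem_coe, mem_Eff] at hD
      obtain ⟨h0, hdeg⟩ := hD
      rw [Finset.mem_coe, Finset.mem_filter, mem_Eff]
      refine ⟨⟨?_, ?_⟩, ?_⟩
      · intro Q
        have := h0 Q
        rw [Finsupp.zero_apply] at this ⊢
        rw [Finsupp.add_apply]
        by_cases hQ : Q = P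
        · subst hQ
          rw [Finsupp.single_eq_same]; omega
        · rw [Finsupp.single_eq_of_ne hQ, add_zero]; exact this
      · rw [deg_add, deg_single, hdeg]
        push_cast [Nat.cast_sub h]
        ring
      · rw [Finsupp.add_apply, Finsupp.single_eq_same]
        have := h0 P
        rw [Finsupp.zero_apply] at this
        omega
    · intro D _
      exact sub_add_cancel _ _
    · intro D _
      exact add_sub_cancel_right _ _
  · rw [Finset.card_eq_zero, Finset.filter_eq_empty_iff]
    intro D hD hj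
    obtain ⟨h0, hdeg⟩ := (mem_Eff hK).mp hD
    apply h
    have h1 := mul_deg_le_deg' h0 P
    rw [hdeg] at h1
    have h2 : (j : ℤ) * (P.deg : ℤ) ≤ D P * (P.deg : ℤ) :=
      mul_le_mul_of_nonneg_right hj (Int.natCast_nonneg _)
    exact_mod_cast h2.trans h1

omit [Finite k] in
/-- Regrouping by `r = j d`. -/
theorem sum_Icc_mul_eq (n d : ℕ) (hd : 0 < d) (f : ℕ → ℤ) :
    (∑ j ∈ Finset.Icc 1 n, if j * d ≤ n then f (j * d) else 0) =
      ∑ r ∈ Finset.Icc 1 n, if d ∣ r then f r else 0 := by
  classical
  rw [← Finset.sum_filter, ← Finset.sum_filter]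
  apply Finset.sum_nbij' (fun j => j * d) (fun r => r / d)
  · intro j hj
    rw [Finset.mem_filter, Finset.mem_Icc] at hj ⊢
    refine ⟨⟨?_, hj.2⟩, Dvd.intro_left j rfl⟩
    exact Nat.one_le_iff_ne_zero.mpr (Nat.mul_ne_zero (by omega) hd.ne')
  · intro r hr
    rw [Finset.mem_filter, Finset.mem_Icc] at hr ⊢
    obtain ⟨⟨h1, h2⟩, c, rfl⟩ := hr
    rw [Nat.mul_div_cancel_left c hd]
    have hc : 1 ≤ c := by
      rcases Nat.eq_zero_or_pos c with h | h
      · rw [h, mul_zero] at h1; omega
      · exact h
    refine ⟨⟨hc, ?_⟩, ?_⟩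
    · calc c ≤ d * c := Nat.le_mul_of_pos_left c hd
        _ ≤ n := h2
    · rw [mul_comm]; exact h2
  · intro j _
    exact Nat.mul_div_cancel j hd
  · intro r hr
    rw [Finset.mem_filter] at hr
    exact Nat.div_mul_cancel hr.2
  · intro j _
    rfl

/-- **The basic identity** `n a_n = ∑_{r=1}^n N_r a_{n-r}`. -/
theorem mul_effDivCount (hK : IsFunctionField k K) (n : ℕ) :
    n * effDivCount k K n = ∑ r ∈ Finset.Icc 1 n, Nr k K r * effDivCount k K (n - r) := by
  classical
  have key : ((n * effDivCount k K n : ℕ) : ℤ) =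
      ((∑ r ∈ Finset.Icc 1 n, Nr k K r * effDivCount k K (n - r) : ℕ) : ℤ) := by
    rw [← card_Eff hK n]
    push_cast
    calc (n : ℤ) * ((Eff hK n).card : ℤ) = ∑ D ∈ Eff hK n, (n : ℤ) := by
          rw [Finset.sum_const, nsmul_eq_mul, mul_comm]
      _ = ∑ D ∈ Eff hK n, ∑ P ∈ Pl hK n, ∑ j ∈ Finset.Icc 1 n,
            if (j : ℤ) ≤ D P then (P.deg : ℤ) else 0 := by
          apply Finset.sum_congr rfl
          intro D hD
          rw [deg_eq_sum_Pl hK hD]
          apply Finset.sum_congr rfl
          intro P _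
          conv_lhs => rw [coeff_eq_sum_Icc hK hD P, Finset.sum_mul]
          apply Finset.sum_congr rfl
          intro j _
          split_ifs <;> simp
      _ = ∑ P ∈ Pl hK n, ∑ j ∈ Finset.Icc 1 n, ∑ D ∈ Eff hK n,
            if (j : ℤ) ≤ D P then (P.deg : ℤ) else 0 := by
          rw [Finset.sum_comm]
          apply Finset.sum_congr rfl
          intro P _
          rw [Finset.sum_comm]
      _ = ∑ P ∈ Pl hK n, ∑ j ∈ Finset.Icc 1 n,
            if j * P.deg ≤ n then (P.deg : ℤ) * (effDivCount k K (n - j * P.deg) : ℤ) else 0 := by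
          apply Finset.sum_congr rfl
          intro P _
          apply Finset.sum_congr rfl
          intro j _
          rw [← Finset.sum_filter, Finset.sum_const, card_filter_ge hK n j P, nsmul_eq_mul]
          split_ifs with h
          · rw [card_Eff, mul_comm]
          · simp
      _ = ∑ P ∈ Pl hK n, ∑ r ∈ Finset.Icc 1 n,
            if P.deg ∣ r then (P.deg : ℤ) * (effDivCount k K (n - r) : ℤ) else 0 := by
          apply Finset.sum_congr rfl
          intro P _
          exact sum_Icc_mul_eq n P.deg (deg_pos hK P)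
            (fun r => (P.deg : ℤ) * (effDivCount k K (n - r) : ℤ))
      _ = ∑ r ∈ Finset.Icc 1 n, ∑ P ∈ Pl hK n,
            if P.deg ∣ r then (P.deg : ℤ) * (effDivCount k K (n - r) : ℤ) else 0 :=
          Finset.sum_comm
      _ = ∑ r ∈ Finset.Icc 1 n, (Nr k K r : ℤ) * (effDivCount k K (n - r) : ℤ) := by
          apply Finset.sum_congr rfl
          intro r hr
          rw [Finset.mem_Icc] at hr
          rw [Nr_eq_sum hK (by omega : 0 < r) hr.2, ← Finset.sum_filter]
          push_cast
          rw [Finset.sum_mul]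
  exact_mod_cast key

end Groth.Agent.Lib.Helper24.RH
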