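import Groth.Agent.Lib.Helper24.RH.Frob
import Groth.Agent.Lib.Helper24.RH.Nr
import Groth.Agent.Lib.Helper24.FFExt.Fundamental
import Mathlib.FieldTheory.Galois.Basic

/-! # Counting Frobenius places in a Galois extension (helper24) -/

set_option autoImplicit false
set_option linter.style.haveILetI false

namespace Groth.Agent.Lib.Helper24.RH

open FunFld WithZero Groth.Agent.Lib.Helper18.FF Groth.Agent.Lib.Helper24.FFExt
  Groth.Agent.Lib.Helper24.Zeta

universe u v w

open scoped Classical in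
/-- The total degree of the `(σ, r)`-Frobenius places. -/
noncomputable def frobDeg (k : Type u) {E : Type w} [Field k] [Field E] [Algebra k E] (σ : E → E)
    (r : ℕ) : ℕ :=
  ∑ᶠ Q : Place k E, if IsFrobAt k σ r Q then Q.deg else 0

variable {k : Type u} {K : Type v} {E : Type w} [Field k] [Field K] [Field E] [Algebra k K]
  [Algebra K E] [Algebra k E] [IsScalarTower k K E]

section

variable [Finite k] [FiniteDimensional K E] [IsGalois K E]

open scoped Classical in
/-- The places of `E` above places of `K` of degree dividing `r`. -/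
noncomputable def frobSupp (hK : IsFunctionField k K) (r : ℕ) : Finset (Place k E) :=
  ((Pl hK r).filter (fun P => P.deg ∣ r)).biUnion fun P => (finite_isOver (K' := E) hK P).toFinset

theorem mem_overSet (hK : IsFunctionField k K) (P : Place k K) (Q : Place k E) :
    Q ∈ (finite_isOver (K' := E) hK P).toFinset ↔ IsOver Q P :=
  Set.Finite.mem_toFinset (finite_isOver (K' := E) hK P)

theorem mem_frobSupp (hK : IsFunctionField k K) {r : ℕ} (hr : 0 < r) {Q : Place k E} :
    Q ∈ frobSupp (E := E) hK r ↔ ∃ P : Place k K, P.deg ∣ r ∧ IsOver Q P := by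
  classical
  rw [frobSupp, Finset.mem_biUnion]
  constructor
  · rintro ⟨P, hP, hQ⟩
    rw [Finset.mem_filter] at hP
    exact ⟨P, hP.2, (mem_overSet hK P Q).mp hQ⟩
  · rintro ⟨P, hP, hQ⟩
    refine ⟨P, Finset.mem_filter.mpr ⟨(mem_Pl hK).mpr (Nat.le_of_dvd hr hP), hP⟩, ?_⟩
    exact (mem_overSet hK P Q).mpr hQ

theorem isFrobAt_mem_frobSupp (hK : IsFunctionField k K) {r : ℕ} (hr : 0 < r) {Q : Place k E}
    (σ : E ≃ₐ[K] E) (hF : IsFrobAt k σ r Q) : Q ∈ frobSupp (E := E) hK r := by
  obtain ⟨P, hP⟩ := exists_isOver (K := K) hK Q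
  exact (mem_frobSupp hK hr).mpr ⟨P, deg_dvd_of_isFrobAt hK hP σ hF, hP⟩

open scoped Classical in
theorem frobDeg_eq_sum (hK : IsFunctionField k K) {r : ℕ} (hr : 0 < r) (σ : E ≃ₐ[K] E) :
    frobDeg k σ r = ∑ Q ∈ frobSupp (E := E) hK r, if IsFrobAt k σ r Q then Q.deg else 0 := by
  rw [frobDeg]
  apply finsum_eq_sum_of_support_subset
  intro Q hQ
  rw [Function.mem_support] at hQ
  rw [Finset.mem_coe]
  by_cases h : IsFrobAt k σ r Q
  · exact isFrobAt_mem_frobSupp hK hr σ h
  · rw [if_neg h] at hQ; exact absurd rfl hQ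

open scoped Classical in
/-- **The Frobenius count**: `∑_σ (total degree of σ-Frobenius places) = |G| · N_r(K)`. -/
theorem sum_frobDeg (hK : IsFunctionField k K) {r : ℕ} (hr : 0 < r) :
    ∑ σ : E ≃ₐ[K] E, frobDeg k σ r = Module.finrank K E * Nr k K r := by
  have h1 : ∑ σ : E ≃ₐ[K] E, frobDeg k σ r =
      ∑ Q ∈ frobSupp (E := E) hK r, ∑ σ : E ≃ₐ[K] E,
        if IsFrobAt k σ r Q then Q.deg else 0 := by
    rw [Finset.sum_comm]
    apply Finset.sum_congr rfl
    intro σ _
    exact frobDeg_eq_sum hK hr σ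
  have h2 : ∀ Q ∈ frobSupp (E := E) hK r, ∀ P : Place k K, IsOver Q P → P.deg ∣ r →
      (∑ σ : E ≃ₐ[K] E, if IsFrobAt k σ r Q then Q.deg else 0) = ramIdx Q P * Q.deg := by
    intro Q _ P hQP hPr
    rw [← Finset.sum_filter, Finset.sum_const, smul_eq_mul]
    congr 1
    have := card_isFrobAt hK (isOver_isOverWith_ramIdx hQP) hPr
    rw [← this, Nat.card_eq_fintype_card, Fintype.card_subtype]
  rw [h1, frobSupp, Finset.sum_biUnion]
  · rw [Nr_eq_sum hK hr le_rfl, Finset.mul_sum]
    apply Finset.sum_congr rfl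
    intro P hP
    rw [Finset.mem_filter] at hP
    rw [← sum_ramIdx_mul_deg (K' := E) hK P (finite_isOver (K' := E) hK P).toFinset
      (fun Q => mem_overSet hK P Q)]
    apply Finset.sum_congr rfl
    intro Q hQ
    have hQP : IsOver Q P := (mem_overSet hK P Q).mp hQ
    exact h2 Q ((mem_frobSupp hK hr).mpr ⟨P, hP.2, hQP⟩) P hQP hP.2
  · intro P _ P' _ hne
    rw [Function.onFun, Finset.disjoint_left]
    intro Q hQ hQ'
    exact hne (isOver_unique ((mem_overSet hK P Q).mp hQ) ((mem_overSet hK P' Q).mp hQ'))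

end

end Groth.Agent.Lib.Helper24.RH
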