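import Groth.Agent.Lib.Helper24.RH.Bombieri
import Groth.Agent.Lib.Helper24.FFExt.Nonsing
import Groth.Agent.Lib.Helper24.FFExt.IntClosure
import Groth.Agent.Lib.Helper24.FFExt.Fundamental
import Groth.Agent.Lib.Helper18.FF.Approx2

/-! # Lifting Frobenius places to a constant field extension (helper24) -/

set_option autoImplicit false
set_option linter.style.haveILetI false

namespace Groth.Agent.Lib.Helper24.RH

open FunFld WithZero Groth.Agent.Lib.Helper18.FF Groth.Agent.Lib.Helper24.FFExt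

open scoped TensorProduct

universe u v

variable {k k' : Type u} {K K' : Type v} [Field k] [Field k'] [Field K] [Field K']
  [Algebra k k'] [Algebra k K] [Algebra K K'] [Algebra k' K'] [Algebra k K']
  [IsScalarTower k k' K'] [IsScalarTower k K K']

/-- A Frobenius condition at `P` lifts to every place of `k' ⊗ K` above `P`. -/
theorem isFrob_lift [FiniteDimensional k k'] [Algebra.IsSeparable k k']
    (h : Function.Bijective (Algebra.TensorProduct.productMap
      (IsScalarTower.toAlgHom k k' K') (IsScalarTower.toAlgHom k K K')))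
    (hK : IsFunctionField k K) (σ : K → K) (σ' : K' →+* K')
    (hσc : ∀ c : k', σ' (algebraMap k' K' c) = algebraMap k' K' c)
    (hσK : ∀ x : K, σ' (algebraMap K K' x) = algebraMap K K' (σ x))
    {N : ℕ} (p : ℕ) [Fact p.Prime] [CharP K' p] (hNp : ∃ j, N = p ^ j)
    (hNc : ∀ c : k', c ^ N = c)
    {P : Place k K} (hP : ∀ x, P.1 x ≤ 1 → P.1 (x ^ N - σ x) < 1)
    {Q : Place k K'} (hQ : IsOver Q P) :
    ∀ y, Q.1 y ≤ 1 → Q.1 (y ^ N - σ' y) < 1 := by
  classical
  haveI := finiteDimensional_of_tensor h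
  letI : Algebra P.O K' := ((algebraMap K K').comp P.O.subtype).toAlgebra
  haveI : IsScalarTower P.O K K' := IsScalarTower.of_algebraMap_eq fun _ => rfl
  haveI := isReduced_of_isSeparable_const (k' := k') hK P
  have hB := integralClosure_eq_adjoin_of_isReduced (P := P) h
  obtain ⟨j, rfl⟩ := hNp
  -- Step 1: the Frobenius congruence on `O_P[k']`
  have step1 : ∀ b ∈ Algebra.adjoin P.O (Set.range (algebraMap k' K')),
      ∀ Q' : Place k K', IsOver Q' P → Q'.1 b ≤ 1 ∧ Q'.1 (b ^ p ^ j - σ' b) < 1 := by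
    intro b hb
    induction hb using Algebra.adjoin_induction with
    | mem x hx =>
      obtain ⟨c, rfl⟩ := hx
      intro Q' _
      refine ⟨val_le_one_of_isIntegral (K := k) Q'.1 Q'.2.1
        ((Algebra.IsIntegral.isIntegral (R := k) c).algebraMap), ?_⟩
      rw [hσc, ← map_pow, hNc, sub_self, map_zero]
      exact zero_lt_one
    | algebraMap r =>
      intro Q' hQ'
      have hr : algebraMap P.O K' r = algebraMap K K' r.1 := rfl
      rw [hr]
      refine ⟨(isOver_le_one_iff hQ' _).mpr r.2, ?_⟩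
      rw [hσK, ← map_pow, ← map_sub, isOver_lt_one_iff hQ']
      exact hP _ r.2
    | add a b _ _ ha hb =>
      intro Q' hQ'
      obtain ⟨ha1, ha2⟩ := ha Q' hQ'
      obtain ⟨hb1, hb2⟩ := hb Q' hQ'
      refine ⟨(Valuation.map_add _ _ _).trans (max_le ha1 hb1), ?_⟩
      have : (a + b) ^ p ^ j - σ' (a + b) = (a ^ p ^ j - σ' a) + (b ^ p ^ j - σ' b) := by
        rw [add_pow_char_pow, map_add]; ring
      rw [this]
      exact lt_of_le_of_lt (Valuation.map_add _ _ _) (max_lt ha2 hb2)
    | mul a b _ _ ha hb =>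
      intro Q' hQ'
      obtain ⟨ha1, ha2⟩ := ha Q' hQ'
      obtain ⟨hb1, hb2⟩ := hb Q' hQ'
      refine ⟨by rw [map_mul]; exact mul_le_one' ha1 hb1, ?_⟩
      have hσa : Q'.1 (σ' a) ≤ 1 := by
        have : σ' a = a ^ p ^ j - (a ^ p ^ j - σ' a) := by ring
        rw [this]
        refine (Valuation.map_sub _ _ _).trans (max_le ?_ ha2.le)
        rw [map_pow]; exact pow_le_one₀ zero_le ha1
      have hbN : Q'.1 (b ^ p ^ j) ≤ 1 := by rw [map_pow]; exact pow_le_one₀ zero_le hb1
      have : (a * b) ^ p ^ j - σ' (a * b) =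
          (a ^ p ^ j - σ' a) * b ^ p ^ j + σ' a * (b ^ p ^ j - σ' b) := by
        rw [mul_pow, map_mul]; ring
      rw [this]
      refine lt_of_le_of_lt (Valuation.map_add _ _ _) (max_lt ?_ ?_)
      · rw [map_mul]
        calc Q'.1 (a ^ p ^ j - σ' a) * Q'.1 (b ^ p ^ j) ≤ Q'.1 (a ^ p ^ j - σ' a) * 1 :=
              mul_le_mul_right hbN _
          _ < 1 := by rw [mul_one]; exact ha2
      · rw [map_mul]
        calc Q'.1 (σ' a) * Q'.1 (b ^ p ^ j - σ' b) ≤ 1 * Q'.1 (b ^ p ^ j - σ' b) :=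
              mul_le_mul_left hσa _
          _ < 1 := by rw [one_mul]; exact hb2
  -- Step 2: localisation
  intro y hy
  set T := (finite_isOver (K' := K') hK P).toFinset with hT
  have hTmem : ∀ Q', Q' ∈ T ↔ IsOver Q' P := fun Q' =>
    Set.Finite.mem_toFinset (finite_isOver (K' := K') hK P)
  obtain ⟨s, hs⟩ := exists_approx T (fun Q' => if Q' = Q then (1 : K') else 0)
    (fun Q' => if Q'.1 y ≤ 1 then 1 else (Q'.1 y)⁻¹) (by
      intro Q' _
      by_cases h1 : Q'.1 y ≤ 1
      · simp only [if_pos h1]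
        exact one_ne_zero
      · simp only [if_neg h1]
        refine inv_ne_zero ?_
        intro h0
        exact h1 (h0 ▸ zero_le))
  have hsQ : Q.1 (s - 1) < 1 := by
    have := hs Q ((hTmem Q).mpr hQ)
    rwa [if_pos rfl, if_pos hy] at this
  have hsQ1 : Q.1 s = 1 := by
    have : s = (s - 1) + 1 := by ring
    rw [this, Valuation.map_add_eq_of_lt_right _ (by rw [map_one]; exact hsQ), map_one]
  have hsO : ∀ Q' : Place k K', IsOver Q' P → Q'.1 s ≤ 1 ∧ Q'.1 (s * y) ≤ 1 := by
    intro Q' hQ'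
    by_cases hQQ : Q' = Q
    · subst hQQ
      refine ⟨hsQ1.le, ?_⟩
      rw [map_mul, hsQ1, one_mul]; exact hy
    · have := hs Q' ((hTmem Q').mpr hQ')
      rw [if_neg hQQ, sub_zero] at this
      by_cases h1 : Q'.1 y ≤ 1
      · rw [if_pos h1] at this
        refine ⟨this.le, ?_⟩
        rw [map_mul]; exact mul_le_one' this.le h1
      · rw [if_neg h1] at this
        push Not at h1
        have hy0 : Q'.1 y ≠ 0 := (lt_trans zero_lt_one h1).ne'
        constructor
        · refine this.le.trans ?_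
          exact (inv_le_one₀ (zero_lt_iff.mpr hy0)).mpr h1.le
        · rw [map_mul]
          calc Q'.1 s * Q'.1 y ≤ (Q'.1 y)⁻¹ * Q'.1 y := mul_le_mul_left this.le _
            _ = 1 := inv_mul_cancel₀ hy0
  have hsint : IsIntegral P.O s := isIntegral_of_forall_isOver hK P fun Q' hQ' => (hsO Q' hQ').1
  have haint : IsIntegral P.O (s * y) :=
    isIntegral_of_forall_isOver hK P fun Q' hQ' => (hsO Q' hQ').2
  have hsB : s ∈ Algebra.adjoin P.O (Set.range (algebraMap k' K')) := by
    have : s ∈ (integralClosure P.O K').toSubring := hsint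
    rw [hB] at this
    exact this
  have haB : s * y ∈ Algebra.adjoin P.O (Set.range (algebraMap k' K')) := by
    have : s * y ∈ (integralClosure P.O K').toSubring := haint
    rw [hB] at this
    exact this
  obtain ⟨-, hs2⟩ := step1 s hsB Q hQ
  obtain ⟨ha1, ha2⟩ := step1 (s * y) haB Q hQ
  have hs0 : s ≠ 0 := by
    intro h0
    rw [h0, map_zero] at hsQ1
    exact zero_ne_one hsQ1
  have hsN : Q.1 (s ^ p ^ j) = 1 := by rw [map_pow, hsQ1, one_pow]
  have hσs : Q.1 (σ' s) = 1 := by
    have : σ' s = s ^ p ^ j - (s ^ p ^ j - σ' s) := by ring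
    rw [this, Valuation.map_sub_eq_of_lt_left _ (by rw [hsN]; exact hs2), hsN]
  have hσs0 : σ' s ≠ 0 := by
    intro h0
    rw [h0, map_zero] at hσs
    exact zero_ne_one hσs
  have key : (y ^ p ^ j - σ' y) * (s ^ p ^ j * σ' s) =
      ((s * y) ^ p ^ j - σ' (s * y)) * s ^ p ^ j - (s * y) ^ p ^ j * (s ^ p ^ j - σ' s) := by
    rw [map_mul, mul_pow]; ring
  have hval : Q.1 ((y ^ p ^ j - σ' y) * (s ^ p ^ j * σ' s)) < 1 := by
    rw [key]
    refine lt_of_le_of_lt (Valuation.map_sub _ _ _) (max_lt ?_ ?_)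
    · rw [map_mul, hsN, mul_one]; exact ha2
    · rw [map_mul]
      have : Q.1 ((s * y) ^ p ^ j) ≤ 1 := by rw [map_pow]; exact pow_le_one₀ zero_le ha1
      calc Q.1 ((s * y) ^ p ^ j) * Q.1 (s ^ p ^ j - σ' s) ≤ 1 * Q.1 (s ^ p ^ j - σ' s) :=
            mul_le_mul_left this _
        _ < 1 := by rw [one_mul]; exact hs2
  rwa [map_mul, map_mul, hsN, hσs, mul_one, mul_one] at hval

end Groth.Agent.Lib.Helper24.RH
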