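import Groth.Agent.Lib.Helper24.RH.Nr
import Mathlib.RingTheory.PowerSeries.Derivative
import Mathlib.RingTheory.PowerSeries.Inverse
import Mathlib.Analysis.Complex.Basic

/-! # Logarithmic derivative of the zeta series: `N_r = q^r + 1 - ∑ αᵢ^r` (helper24) -/

set_option autoImplicit false
set_option linter.style.haveILetI false

namespace Groth.Agent.Lib.Helper24.RH

open FunFld PowerSeries Groth.Agent.Lib.Helper24.Zeta

universe u v

section general

variable {F : Type*} [Field F]

/-- The series `∑ x^{r+1} t^r`. -/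
noncomputable def geomS (x : F) : F⟦X⟧ := PowerSeries.mk fun r => x ^ (r + 1)

theorem one_sub_mul_geomS (x : F) : (1 - C x * X) * geomS x = C x := by
  ext n
  rw [sub_mul, one_mul, map_sub, mul_assoc, coeff_C_mul]
  cases n with
  | zero =>
    rw [coeff_zero_X_mul, mul_zero, sub_zero, geomS, coeff_mk, coeff_zero_C, zero_add, pow_one]
  | succ n =>
    rw [coeff_succ_X_mul, geomS, coeff_mk, coeff_mk, coeff_C, if_neg (Nat.succ_ne_zero n)]
    ring

theorem derivative_one_sub (x : F) :
    d⁄dX F (1 - C x * X : F⟦X⟧) = (1 - C x * X) * (-geomS x) := by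
  rw [mul_neg, one_sub_mul_geomS, map_sub, Derivation.leibniz, derivative_C, derivative_X,
    derivative_one]
  simp

theorem derivative_prod_one_sub {ι : Type*} (s : Finset ι) (α : ι → F) :
    d⁄dX F (∏ i ∈ s, (1 - C (α i) * X) : F⟦X⟧) =
      (∏ i ∈ s, (1 - C (α i) * X)) * (-∑ i ∈ s, geomS (α i)) := by
  classical
  induction s using Finset.induction_on with
  | empty => simp [derivative_one]
  | insert a s ha ih =>
    rw [Finset.prod_insert ha, Finset.sum_insert ha, Derivation.leibniz, ih, derivative_one_sub]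
    simp only [smul_eq_mul]
    ring

end general

variable {k : Type u} {K : Type v} [Field k] [Field K] [Algebra k K] [Finite k]

/-- The zeta series over `ℂ`. -/
noncomputable def zetaC (k : Type u) (K : Type v) [Field k] [Field K] [Algebra k K] : ℂ⟦X⟧ :=
  PowerSeries.map (Int.castRingHom ℂ) (zetaZ k K)

theorem coeff_zetaC (n : ℕ) : coeff n (zetaC k K) = (effDivCount k K n : ℂ) := by
  rw [zetaC, coeff_map, zetaZ, coeff_mk]
  simp

theorem mul_effDivCount' (hK : IsFunctionField k K) (n : ℕ) :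
    (n + 1) * effDivCount k K (n + 1) =
      ∑ j ∈ Finset.range (n + 1), Nr k K (j + 1) * effDivCount k K (n - j) := by
  rw [mul_effDivCount hK (n + 1)]
  apply Finset.sum_nbij' (fun r => r - 1) (fun j => j + 1)
  · intro r hr
    rw [Finset.mem_Icc] at hr
    rw [Finset.mem_range]; omega
  · intro j hj
    rw [Finset.mem_range] at hj
    rw [Finset.mem_Icc]; omega
  · intro r hr
    rw [Finset.mem_Icc] at hr
    omega
  · intro j _
    omega
  · intro r hr
    rw [Finset.mem_Icc] at hr
    have h1 : r - 1 + 1 = r := by omega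
    have h2 : n + 1 - r = n - (r - 1) := by omega
    rw [h1, h2]

/-- `Z' = Z · ∑ N_{r+1} t^r`. -/
theorem derivative_zetaC (hK : IsFunctionField k K) :
    d⁄dX ℂ (zetaC k K) = zetaC k K * PowerSeries.mk fun r => (Nr k K (r + 1) : ℂ) := by
  ext n
  rw [coeff_derivative, coeff_zetaC, coeff_mul,
    Finset.Nat.sum_antidiagonal_eq_sum_range_succ_mk]
  have h := mul_effDivCount' hK n
  have h' : ((n : ℂ) + 1) * (effDivCount k K (n + 1) : ℂ) =
      ∑ j ∈ Finset.range (n + 1), (Nr k K (j + 1) : ℂ) * (effDivCount k K (n - j) : ℂ) := by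
    exact_mod_cast h
  rw [mul_comm, h', ← Finset.sum_range_reflect]
  apply Finset.sum_congr rfl
  intro j hj
  rw [Finset.mem_range] at hj
  rw [coeff_zetaC, coeff_mk]
  have h1 : n + 1 - 1 - j = n - j := by omega
  have h2 : n - (n - j) = j := by omega
  rw [h1, h2, mul_comm]

theorem numerC_eq :
    PowerSeries.map (Int.castRingHom ℂ) (numerZ k K) =
      (1 - C (1 : ℂ) * X) * (1 - C (Nat.card k : ℂ) * X) * zetaC k K := by
  rw [numerZ, map_mul, map_mul, zetaC]
  simp

/-- **`N_r = q^r + 1 - ∑ αᵢ^r`** whenever the numerator of the zeta series is `∏ (1 - αᵢ t)`. -/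
theorem Nr_eq {ι : Type*} [Fintype ι] (hK : IsFunctionField k K) (α : ι → ℂ)
    (hα : PowerSeries.map (Int.castRingHom ℂ) (numerZ k K) =
      (∏ i, (1 - C (α i) * X) : ℂ⟦X⟧)) (r : ℕ) (hr : 0 < r) :
    (Nr k K r : ℂ) = (Nat.card k : ℂ) ^ r + 1 - ∑ i, α i ^ r := by
  obtain ⟨r, rfl⟩ := Nat.exists_eq_succ_of_ne_zero hr.ne'
  set G : ℂ⟦X⟧ := PowerSeries.mk fun r => (Nr k K (r + 1) : ℂ) with hG
  set Lp : ℂ⟦X⟧ := ∏ i, (1 - C (α i) * X) with hLp
  have h1 : d⁄dX ℂ Lp = Lp * (-∑ i, geomS (α i)) := derivative_prod_one_sub _ α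
  have h2 : d⁄dX ℂ Lp = Lp * (-geomS 1 + -geomS (Nat.card k : ℂ) + G) := by
    rw [← hα, numerC_eq, Derivation.leibniz, Derivation.leibniz, derivative_one_sub,
      derivative_one_sub, derivative_zetaC hK]
    simp only [smul_eq_mul]
    ring
  have hne : Lp ≠ 0 := by
    intro h0
    have hc : constantCoeff Lp = 1 := by
      rw [hLp, map_prod]
      apply Finset.prod_eq_one
      intro i _
      simp
    rw [h0, map_zero] at hc
    exact zero_ne_one hc
  have h3 : -∑ i, geomS (α i) = -geomS 1 + -geomS (Nat.card k : ℂ) + G :=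
    mul_left_cancel₀ hne (h1.symm.trans h2)
  have h4 := congrArg (coeff r) h3
  simp only [map_neg, map_add, map_sum, geomS, coeff_mk, hG, one_pow] at h4
  rw [Nat.succ_eq_add_one]
  linear_combination -h4

end Groth.Agent.Lib.Helper24.RH
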