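import Mathlib.LinearAlgebra.Vandermonde
import Mathlib.Analysis.Complex.Basic
import Mathlib.LinearAlgebra.Matrix.NonsingularInverse
import Mathlib.Algebra.Order.Archimedean.Basic

/-! # Bounded power sums force bounded terms (helper24) -/

set_option autoImplicit false

namespace Groth.Agent.Lib.Helper24.RH

open Matrix

/-- With distinct `w j`, a bound `‖∑ m_j w_j^s‖ ≤ C B^s` for all `s ≥ 1` forces `‖w j‖ ≤ B` whenever
`m j ≥ 1`. -/
theorem norm_le_of_weighted_powerSum_bound {n : ℕ} (w : Fin n → ℂ) (hw : Function.Injective w)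
    (m : Fin n → ℕ) (B C : ℝ) (hB : 0 < B)
    (h : ∀ s : ℕ, 0 < s → ‖∑ j, (m j : ℂ) * w j ^ s‖ ≤ C * B ^ s) (j₀ : Fin n) (hm : 1 ≤ m j₀) :
    ‖w j₀‖ ≤ B := by
  classical
  set V : Matrix (Fin n) (Fin n) ℂ := vandermonde w with hV
  have hdet : IsUnit V.det := isUnit_iff_ne_zero.mpr (det_vandermonde_ne_zero_iff.mpr hw)
  have hVV : V * V⁻¹ = 1 := mul_nonsing_inv V hdet
  set C' : ℝ := C * ∑ l : Fin n, B ^ (l : ℕ) * ‖V⁻¹ l j₀‖ with hC'
  have key : ∀ s : ℕ, 0 < s → ‖w j₀‖ ^ s ≤ B ^ s * C' := by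
    intro s hs
    set x : Fin n → ℂ := fun j => (m j : ℂ) * w j ^ s with hx
    have hy : ∀ l : Fin n, (x ᵥ* V) l = ∑ j, (m j : ℂ) * w j ^ (s + (l : ℕ)) := by
      intro l
      rw [vecMul, dotProduct]
      apply Finset.sum_congr rfl
      intro j _
      rw [hx, hV, vandermonde_apply, pow_add]
      ring
    have hxx : x = (x ᵥ* V) ᵥ* V⁻¹ := by
      rw [vecMul_vecMul, hVV, vecMul_one]
    have h1 : x j₀ = ∑ l, (x ᵥ* V) l * V⁻¹ l j₀ := by
      conv_lhs => rw [hxx]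
      rw [vecMul, dotProduct]
    have h2 : ‖x j₀‖ ≤ B ^ s * C' := by
      rw [h1]
      calc ‖∑ l, (x ᵥ* V) l * V⁻¹ l j₀‖ ≤ ∑ l, ‖(x ᵥ* V) l * V⁻¹ l j₀‖ := norm_sum_le _ _
        _ ≤ ∑ l : Fin n, C * B ^ (s + (l : ℕ)) * ‖V⁻¹ l j₀‖ := by
          apply Finset.sum_le_sum
          intro l _
          rw [norm_mul, hy l]
          exact mul_le_mul_of_nonneg_right (h _ (by omega)) (norm_nonneg _)
        _ = B ^ s * C' := by
          rw [hC', Finset.mul_sum, Finset.mul_sum]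
          apply Finset.sum_congr rfl
          intro l _
          rw [pow_add]; ring
    have h3 : ‖w j₀‖ ^ s ≤ ‖x j₀‖ := by
      rw [hx]
      simp only [norm_mul, norm_pow, Complex.norm_natCast]
      have : (1 : ℝ) ≤ (m j₀ : ℝ) := by exact_mod_cast hm
      calc ‖w j₀‖ ^ s = 1 * ‖w j₀‖ ^ s := (one_mul _).symm
        _ ≤ (m j₀ : ℝ) * ‖w j₀‖ ^ s :=
          mul_le_mul_of_nonneg_right this (pow_nonneg (norm_nonneg _) _)
    exact h3.trans h2
  by_contra hlt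
  push Not at hlt
  have h1 : 1 < ‖w j₀‖ / B := (one_lt_div hB).mpr hlt
  obtain ⟨N, hN⟩ := pow_unbounded_of_one_lt C' h1
  have h2 := key (N + 1) (Nat.succ_pos N)
  have h3 : (‖w j₀‖ / B) ^ (N + 1) ≤ C' := by
    rw [div_pow, div_le_iff₀ (pow_pos hB _), mul_comm]
    exact h2
  have h4 : (‖w j₀‖ / B) ^ N ≤ (‖w j₀‖ / B) ^ (N + 1) :=
    pow_le_pow_right₀ h1.le (Nat.le_succ N)
  linarith

/-- **Bounded power sums**: if `‖∑ ω_i^s‖ ≤ C B^s` for all `s ≥ 1`, then every `‖ω_i‖ ≤ B`. -/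
theorem norm_le_of_powerSum_bound {ι : Type*} [Fintype ι] (ω : ι → ℂ) (B C : ℝ) (hB : 0 < B)
    (h : ∀ s : ℕ, 0 < s → ‖∑ i, ω i ^ s‖ ≤ C * B ^ s) (i : ι) : ‖ω i‖ ≤ B := by
  classical
  set W : Finset ℂ := Finset.univ.image ω with hW
  set n := W.card with hn
  let e : W ≃ Fin n := W.equivFin
  set w : Fin n → ℂ := fun j => ((e.symm j : W) : ℂ) with hw
  have hwinj : Function.Injective w := by
    intro a b hab
    exact e.symm.injective (Subtype.ext hab)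
  set m : Fin n → ℕ := fun j => (Finset.univ.filter (fun i => ω i = w j)).card with hm
  have hsum : ∀ s : ℕ, ∑ i, ω i ^ s = ∑ j, (m j : ℂ) * w j ^ s := by
    intro s
    rw [Finset.sum_comp (fun z : ℂ => z ^ s) ω, ← hW, ← Finset.sum_coe_sort W,
      ← Equiv.sum_comp e.symm]
    apply Finset.sum_congr rfl
    intro j _
    rw [nsmul_eq_mul]
  have hi : ω i ∈ W := Finset.mem_image_of_mem ω (Finset.mem_univ i)
  set j₀ : Fin n := e ⟨ω i, hi⟩ with hj₀
  have hwj : w j₀ = ω i := by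
    rw [hw, hj₀]
    simp
  have hmj : 1 ≤ m j₀ := by
    rw [hm]
    apply Finset.card_pos.mpr
    exact ⟨i, Finset.mem_filter.mpr ⟨Finset.mem_univ i, hwj.symm⟩⟩
  rw [← hwj]
  apply norm_le_of_weighted_powerSum_bound w hwinj m B C hB _ j₀ hmj
  intro s hs
  rw [← hsum s]
  exact h s hs

end Groth.Agent.Lib.Helper24.RH
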