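import Groth.Agent.Lib.Helper24.RH.Weil
import Groth.Agent.Lib.Helper24.RH.LogDeriv
import Groth.Agent.Lib.Helper24.RH.PowerSum
import Groth.Agent.Lib.Helper24.FFExt.Separating
import Groth.Agent.Lib.Helper24.FFExt.UnifSpan
import Groth.Agent.Lib.Helper18.FF.Rational
import Groth.Agent.Lib.Helper18.Zeta.Numer
import Mathlib.FieldTheory.Normal.Closure
import Mathlib.FieldTheory.IsAlgClosed.AlgebraicClosure

/-! # The Hasse–Weil bound for function fields over finite fields (helper24) -/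

set_option autoImplicit false
set_option linter.style.haveILetI false

namespace Groth.Agent.Lib.Helper24.RH

open FunFld WithZero IntermediateField Groth.Agent.Lib.Helper18.FF Groth.Agent.Lib.Helper24.FFExt
  Groth.Agent.Lib.Helper24.Zeta

universe u v

variable {k : Type u} {K : Type v} [Field k] [Field K] [Algebra k K]

/-- A function field of genus zero over a finite field has `N_r = q^r + 1`. -/
theorem Nr_of_genus_zero [Finite k] (hK : IsFunctionField k K) (hg : genus k K = 0) {r : ℕ}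
    (hr : 0 < r) : Nr k K r = Nat.card k ^ r + 1 := by
  have hnum : numerZ k K = 1 := by
    ext n
    rcases Nat.eq_zero_or_pos n with rfl | hn
    · rw [Groth.Agent.Lib.Helper18.Zeta.coeff_numerZ_zero,
        Groth.Agent.Lib.Helper18.Zeta.effDivCount_zero hK]
      simp
    · rw [Groth.Agent.Lib.Helper18.Zeta.coeff_numerZ_eq_zero hK n (by rw [hg]; omega),
        PowerSeries.coeff_one, if_neg hn.ne']
  have h := Nr_eq (ι := Fin 0) hK (fun _ => 0) (by rw [hnum]; simp) r hr
  simp only [Finset.univ_eq_empty, Finset.sum_empty, sub_zero] at h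
  exact_mod_cast h

/-- **The Hasse–Weil estimate for `N_r`** along a progression of levels. -/
theorem weil_bound [Finite k] (hK : IsFunctionField k K) :
    ∃ D c n₀ : ℕ, 0 < D ∧ ∀ a : ℕ, 0 < a → (c + 1) ^ 2 < Nat.card k ^ (D * a) →
      |(Nr k K (2 * (D * a)) : ℝ) - (Nat.card k : ℝ) ^ (2 * (D * a)) - 1| ≤
        (n₀ : ℝ) * (2 * c + 1) * (Nat.card k : ℝ) ^ (D * a) := by
  classical
  haveI : PerfectField k := inferInstance
  have hg := isGeometric_of_perfectField hK
  obtain ⟨t, ht, hfin, hsep⟩ := exists_separating hK hg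
  haveI := hfin
  haveI := hsep
  set K₀ : IntermediateField k K := k⟮t⟯ with hK₀def
  have hK₀ : IsFunctionField k K₀ :=
    isFunctionField_intermediateField hK _ ⟨t, mem_adjoin_simple_self k t, ht⟩
  have hgen : genus k K₀ = 0 :=
    ((genus_zero_and_exists_deg_one_iff hK₀).mpr ⟨AdjoinSimple.gen k t, adjoin_gen_eq_top t⟩).1
  haveI : IsAlgClosure K₀ (AlgebraicClosure K) :=
    ⟨inferInstance, Algebra.IsAlgebraic.trans K₀ K _⟩
  haveI : Normal K₀ (AlgebraicClosure K) := IsAlgClosure.normal _ _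
  set E := normalClosure K₀ K (AlgebraicClosure K) with hE
  haveI : Algebra.IsSeparable K₀ E := by
    rw [hE, normalClosure_def]
    haveI : ∀ f : K →ₐ[K₀] AlgebraicClosure K, Algebra.IsSeparable K₀ f.fieldRange := fun f =>
      AlgEquiv.Algebra.isSeparable (AlgEquiv.ofInjectiveField f)
    exact IntermediateField.isSeparable_iSup _ _
  haveI : IsGalois K₀ E := ⟨⟩
  letI : Algebra k E := ((algebraMap K₀ E).comp (algebraMap k K₀)).toAlgebra
  haveI : IsScalarTower k K₀ E := IsScalarTower.of_algebraMap_eq fun _ => rfl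
  haveI : IsScalarTower k K E := IsScalarTower.of_algebraMap_eq fun c => by
    show algebraMap K₀ E (algebraMap k K₀ c) = algebraMap K E (algebraMap k K c)
    rw [IsScalarTower.algebraMap_apply k K₀ K, ← IsScalarTower.algebraMap_apply K₀ K E]
  obtain ⟨D, c, hD, hmain⟩ := weil_tower (K₀ := K₀) (K := K) (E := E) hK₀ hK
  haveI : FiniteDimensional K E := FiniteDimensional.right K₀ K E
  refine ⟨D, c, Module.finrank K₀ E, hD, ?_⟩
  intro a ha hca
  obtain ⟨hup, hlow⟩ := hmain a ha hca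
  have hrpos : 0 < 2 * (D * a) := Nat.mul_pos (by norm_num) (Nat.mul_pos hD ha)
  rw [Nr_of_genus_zero hK₀ hgen hrpos] at hlow
  set N := Nr k K (2 * (D * a)) with hN
  set q := Nat.card k with hq
  set n₀ := Module.finrank K₀ E with hn₀
  set n := Module.finrank K E with hn
  have hnpos : 0 < n := Module.finrank_pos
  have hn₀pos : 0 < n₀ := Module.finrank_pos
  have hupR : (N : ℝ) ≤ (q : ℝ) ^ (2 * (D * a)) + (2 * c + 1) * (q : ℝ) ^ (D * a) := by
    exact_mod_cast hup
  have hlowR : (n₀ : ℝ) * ((q : ℝ) ^ (2 * (D * a)) + 1) +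
      (n : ℝ) * ((q : ℝ) ^ (2 * (D * a)) + (2 * c + 1) * (q : ℝ) ^ (D * a)) ≤
      (n : ℝ) * N + (n₀ : ℝ) * ((q : ℝ) ^ (2 * (D * a)) + (2 * c + 1) * (q : ℝ) ^ (D * a)) := by
    exact_mod_cast hlow
  have hnR : (1 : ℝ) ≤ n := by exact_mod_cast hnpos
  have hn₀R : (1 : ℝ) ≤ n₀ := by exact_mod_cast hn₀pos
  have hnn₀ : (n : ℝ) ≤ n₀ := by
    have h1 := Module.finrank_mul_finrank K₀ K E
    have h2 : 0 < Module.finrank K₀ K := Module.finrank_pos
    have h3 : n ≤ n₀ := by
      rw [hn₀, ← h1]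
      exact Nat.le_mul_of_pos_left _ h2
    exact_mod_cast h3
  set X : ℝ := (q : ℝ) ^ (2 * (D * a)) with hX
  set Y : ℝ := (2 * c + 1) * (q : ℝ) ^ (D * a) with hY
  have hY0 : 0 ≤ Y := by rw [hY]; positivity
  have hgoal : (n₀ : ℝ) * (2 * c + 1) * (q : ℝ) ^ (D * a) = n₀ * Y := by rw [hY]; ring
  rw [hgoal, abs_le]
  constructor
  · -- lower bound
    have h1 : (n : ℝ) * ((N : ℝ) - X - 1) ≥ ((n₀ : ℝ) - n) + n * Y - n₀ * Y := by nlinarith
    have h2 : ((n₀ : ℝ) - n) + n * Y - n₀ * Y + n * (n₀ * Y) ≥ 0 := by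
      have e : ((n₀ : ℝ) - n) + n * Y - n₀ * Y + n * (n₀ * Y) =
          ((n₀ : ℝ) - n) + Y * (n + n₀ * (n - 1)) := by ring
      rw [e]
      have h3 : (0 : ℝ) ≤ n + n₀ * (n - 1) := by nlinarith
      nlinarith [mul_nonneg hY0 h3]
    have h4 : (n : ℝ) * (-(n₀ * Y)) ≤ (n : ℝ) * ((N : ℝ) - X - 1) := by nlinarith
    exact le_of_mul_le_mul_left h4 (by linarith : (0 : ℝ) < n)
  · have h3 : Y ≤ n₀ * Y := by nlinarith
    linarith

end Groth.Agent.Lib.Helper24.RH
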