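import Groth.Agent.Lib.Helper24.RH.BombieriExt
import Groth.Agent.Lib.Helper24.RH.FrobCount
import Mathlib.FieldTheory.Galois.Basic
import Mathlib.FieldTheory.PrimitiveElement

/-! # Frobenius counts in a Galois tower whose top field has a larger constant field (helper24) -/

set_option autoImplicit false
set_option linter.style.haveILetI false

namespace Groth.Agent.Lib.Helper24.RH

open FunFld WithZero IntermediateField Groth.Agent.Lib.Helper18.FF Groth.Agent.Lib.Helper24.FFExt
  Groth.Agent.Lib.Helper24.Zeta

universe u v w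

variable {k : Type u} {L : Type v} {E : Type w} [Field k] [Field L] [Field E] [Algebra k L]
  [Algebra L E] [Algebra k E] [IsScalarTower k L E]

/-- The elements of `Gal(E/L)` fixing the constants of `E`: there are `[E : L] / [k₁ : k]` of
them. -/
theorem card_fix_mul [Finite k] [FiniteDimensional L E] [IsGalois L E] (hL : IsFunctionField k L) :
    Nat.card {σ : E ≃ₐ[L] E // ∀ c ∈ algebraicClosure k E, σ c = c} *
      Module.finrank k (algebraicClosure k E) = Module.finrank L E := by
  classical
  set k₁ := algebraicClosure k E with hk₁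
  have hW : WeakFF k E := (IsFunctionField.weakFF hL).of_finite
  haveI : FiniteDimensional k k₁ := Module.finite_of_finrank_pos hW.finrank_kc_pos
  haveI : Finite k₁ := Module.finite_of_finite k
  haveI : Algebra.IsAlgebraic k k₁ := Algebra.IsAlgebraic.of_finite k k₁
  haveI : Algebra.IsSeparable k k₁ := Algebra.IsAlgebraic.isSeparable_of_perfectField
  obtain ⟨θ, hθ⟩ := Field.exists_primitive_element k k₁
  set θE : E := (θ : E) with hθE
  have hk₁le : ∀ c ∈ k₁, c ∈ IntermediateField.adjoin k ({θE} : Set E) := by
    intro c hc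
    have h1 : (⟨c, hc⟩ : k₁) ∈ IntermediateField.adjoin k ({θ} : Set k₁) := by
      rw [hθ]; exact IntermediateField.mem_top
    have h2 : (IntermediateField.adjoin k ({θ} : Set k₁)).map k₁.val =
        IntermediateField.adjoin k ({θE} : Set E) := by
      rw [IntermediateField.adjoin_map, Set.image_singleton]
      rfl
    rw [← h2]
    exact ⟨⟨c, hc⟩, h1, rfl⟩
  have hθint : IsIntegral k θ := Algebra.IsIntegral.isIntegral θ
  have hθEint : IsIntegral k θE := hθint.map k₁.val
  have hθEintL : IsIntegral L θE := hθEint.tower_top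
  have hmin : minpoly k θE = minpoly k θ := (minpoly.algebraMap_eq k₁.val.injective θ)
  have hirr : Irreducible ((minpoly k θE).map (algebraMap k L)) :=
    irreducible_map_of_algClosedIn hL.2 (minpoly.monic hθEint) (minpoly.irreducible hθEint)
  have hminL : minpoly L θE = (minpoly k θE).map (algebraMap k L) := by
    symm
    apply minpoly.eq_of_irreducible_of_monic hirr
    · rw [Polynomial.aeval_map_algebraMap, minpoly.aeval]
    · exact (minpoly.monic hθEint).map _
  set F : IntermediateField L E := L⟮θE⟯ with hF
  have hfrF : Module.finrank L F = Module.finrank k k₁ := by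
    rw [hF, IntermediateField.adjoin.finrank hθEintL, hminL, Polynomial.natDegree_map, hmin,
      ← IntermediateField.adjoin.finrank hθint, hθ, IntermediateField.finrank_top']
  have hcardF : Nat.card F.fixingSubgroup = Module.finrank F E :=
    IsGalois.card_fixingSubgroup_eq_finrank F
  have hset : ∀ σ : E ≃ₐ[L] E, σ ∈ F.fixingSubgroup ↔ ∀ c ∈ k₁, σ c = c := by
    intro σ
    rw [IntermediateField.mem_fixingSubgroup_iff]
    constructor
    · intro h c hc
      have hadjF : ∀ c', c' ∈ IntermediateField.adjoin k ({θE} : Set E) → c' ∈ F := by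
        intro c' hc'
        induction hc' using IntermediateField.adjoin_induction with
        | mem x hx =>
          rw [Set.mem_singleton_iff.mp hx]
          exact IntermediateField.mem_adjoin_simple_self L θE
        | algebraMap x =>
          rw [IsScalarTower.algebraMap_apply k L E]
          exact F.algebraMap_mem _
        | add x y _ _ hx hy => exact F.add_mem hx hy
        | inv x _ hx => exact F.inv_mem hx
        | mul x y _ _ hx hy => exact F.mul_mem hx hy
      exact h c (hadjF c (hk₁le c hc))
    · intro h x hx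
      have hθfix : σ θE = θE := h θE θ.2
      rw [hF] at hx
      induction hx using IntermediateField.adjoin_induction with
      | mem y hy => rw [Set.mem_singleton_iff.mp hy]; exact hθfix
      | algebraMap y => exact σ.commutes y
      | add x y _ _ hx hy => rw [map_add, hx, hy]
      | inv x _ hx => rw [map_inv₀, hx]
      | mul x y _ _ hx hy => rw [map_mul, hx, hy]
  have hcard : Nat.card {σ : E ≃ₐ[L] E // ∀ c ∈ k₁, σ c = c} = Nat.card F.fixingSubgroup := by
    apply Nat.card_congr
    exact Equiv.subtypeEquivRight fun σ => (hset σ).symm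
  rw [hcard, hcardF, ← hfrF, mul_comm]
  exact Module.finrank_mul_finrank L F E

theorem card_kc [Finite k] [FiniteDimensional L E] (hL : IsFunctionField k L) :
    Finite (algebraicClosure k E) ∧
      Nat.card (algebraicClosure k E) = Nat.card k ^ Module.finrank k (algebraicClosure k E) := by
  have hW : WeakFF k E := (IsFunctionField.weakFF hL).of_finite
  haveI : FiniteDimensional k (algebraicClosure k E) :=
    Module.finite_of_finrank_pos hW.finrank_kc_pos
  exact ⟨Module.finite_of_finite k, Module.natCard_eq_pow_finrank⟩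

/-- An automorphism with a Frobenius place (of level divisible by `[k₁ : k]`) fixes the constants
of `E`. -/
theorem fix_of_isFrobAt [Finite k] [FiniteDimensional L E] (hL : IsFunctionField k L)
    (τ : E ≃ₐ[L] E) {r : ℕ} (hr : Module.finrank k (algebraicClosure k E) ∣ r) {Q : Place k E}
    (hQ : IsFrobAt k τ r Q) : ∀ c ∈ algebraicClosure k E, τ c = c := by
  intro c hc
  obtain ⟨hfin, hcard⟩ := card_kc (E := E) hL
  haveI := hfin
  obtain ⟨s, rfl⟩ := hr
  have hcint : IsIntegral k c := (mem_algebraicClosure_iff.mp hc).isIntegral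
  have hτc : IsIntegral k (τ c) := hcint.map (τ.restrictScalars k : E ≃ₐ[k] E)
  have hpow : c ^ (Nat.card k ^ (Module.finrank k (algebraicClosure k E) * s)) = c := by
    have := pow_card_pow_mul_eq hcard s (⟨c, hc⟩ : algebraicClosure k E)
    exact congrArg Subtype.val this
  have hle : Q.1 c ≤ 1 := val_le_one_of_isIntegral (K := k) Q.1 Q.2.1 hcint
  have h1 := hQ c hle
  rw [hpow] at h1
  by_contra hne
  have h0 : c - τ c ≠ 0 := sub_ne_zero.mpr (Ne.symm hne)
  have := Groth.Agent.Lib.Helper18.Zeta.val_eq_one_of_isIntegral Q (hcint.sub hτc) h0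
  rw [this] at h1
  exact lt_irrefl _ h1

open scoped Classical in
theorem frobDeg_eq_zero_of_not_fix [Finite k] [FiniteDimensional L E] (hL : IsFunctionField k L)
    (τ : E ≃ₐ[L] E) {r : ℕ} (hr : Module.finrank k (algebraicClosure k E) ∣ r)
    (hτ : ¬ ∀ c ∈ algebraicClosure k E, τ c = c) : frobDeg k τ r = 0 := by
  rw [frobDeg]
  apply finsum_eq_zero_of_forall_eq_zero
  intro Q
  rw [if_neg]
  intro hQ
  exact hτ (fix_of_isFrobAt hL τ hr hQ)

theorem finsum_le_of_forall_finset {α : Type*} (f : α → ℕ) (B : ℕ)
    (h : ∀ T : Finset α, (∀ x ∈ T, f x ≠ 0) → ∑ x ∈ T, f x ≤ B) : ∑ᶠ x, f x ≤ B := by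
  by_cases hfin : (Function.support f).Finite
  · rw [finsum_eq_sum_of_support_subset f (s := hfin.toFinset) (by
      intro x hx; rw [Finset.mem_coe, Set.Finite.mem_toFinset]; exact hx)]
    apply h
    intro x hx
    exact (Set.Finite.mem_toFinset hfin).mp hx
  · rw [finsum_of_infinite_support hfin]
    exact Nat.zero_le _

open scoped Classical in
/-- **The Bombieri bound for the Frobenius degree** of an automorphism fixing the constants. -/
theorem frobDeg_le_of_fix {k : Type u} {E : Type w} [Field k] [Field E] [Algebra k E] [Finite k]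
    (hW : WeakFF k E) :
    ∃ d c : ℕ, 0 < d ∧ ∀ (τ₁ : E ≃ₐ[algebraicClosure k E] E) (a : ℕ),
      (c + 1) ^ 2 < Nat.card k ^ (Module.finrank k (algebraicClosure k E) * (d * a)) →
      frobDeg k τ₁ (2 * (Module.finrank k (algebraicClosure k E) * (d * a))) ≤
        Module.finrank k (algebraicClosure k E) *
          (Nat.card k ^ (2 * (Module.finrank k (algebraicClosure k E) * (d * a))) +
            (2 * c + 1) * Nat.card k ^ (Module.finrank k (algebraicClosure k E) * (d * a))) := by
  set k₁ := algebraicClosure k E with hk₁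
  set d₁ := Module.finrank k k₁ with hd₁
  haveI : FiniteDimensional k k₁ := Module.finite_of_finrank_pos hW.finrank_kc_pos
  haveI : Finite k₁ := Module.finite_of_finite k
  have hcard : Nat.card k₁ = Nat.card k ^ d₁ := Module.natCard_eq_pow_finrank
  have hE₁ : IsFunctionField k₁ E := hW.isFunctionField_kc
  obtain ⟨d, c, hd, hB⟩ := bombieri_exists hE₁
  refine ⟨d, c, hd, ?_⟩
  intro τ₁ a ha
  rw [frobDeg]
  apply finsum_le_of_forall_finset
  intro T hT
  have hTF : ∀ Q ∈ T, IsFrobAt k τ₁ (2 * (d₁ * (d * a))) Q := by
    intro Q hQ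
    by_contra hne
    exact hT Q hQ (if_neg hne)
  have hsum : ∑ Q ∈ T, (if IsFrobAt k τ₁ (2 * (d₁ * (d * a))) Q then Q.deg else 0) =
      d₁ * ∑ R ∈ T.image (toAlg k₁), R.deg := by
    rw [Finset.sum_image (fun Q _ Q' _ hQQ' => toAlg_injective k₁ hQQ'), Finset.mul_sum]
    apply Finset.sum_congr rfl
    intro Q hQ
    rw [if_pos (hTF Q hQ), deg_eq_mul_deg_toAlg k₁ Q]
  rw [hsum]
  apply Nat.mul_le_mul_left
  have e1 : Nat.card k ^ (2 * (d₁ * (d * a))) = Nat.card k₁ ^ (2 * (d * a)) := by
    rw [hcard, ← pow_mul]; congr 1; ring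
  have e2 : Nat.card k ^ (d₁ * (d * a)) = Nat.card k₁ ^ (d * a) := by
    rw [hcard, ← pow_mul]
  rw [e1, e2]
  apply hB τ₁ a (by rw [← e2]; exact ha)
  intro R hR
  rw [Finset.mem_image] at hR
  obtain ⟨Q, hQ, rfl⟩ := hR
  intro x hx
  have := hTF Q hQ x hx
  rw [e1] at this
  exact this

end Groth.Agent.Lib.Helper24.RH
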