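import Groth.Agent.Lib.Helper24.RH.Tower

/-! # The Weil bound for `N_r` from a Galois tower over a field with known `N_r` (helper24) -/

set_option autoImplicit false
set_option linter.style.haveILetI false

namespace Groth.Agent.Lib.Helper24.RH

open FunFld WithZero IntermediateField Groth.Agent.Lib.Helper18.FF Groth.Agent.Lib.Helper24.FFExt
  Groth.Agent.Lib.Helper24.Zeta

universe u v₀ v w

variable {k : Type u} {K₀ : Type v₀} {K : Type v} {E : Type w} [Field k] [Field K₀] [Field K]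
  [Field E] [Algebra k K₀] [Algebra k K] [Algebra k E] [Algebra K₀ K] [Algebra K₀ E] [Algebra K E]
  [IsScalarTower k K₀ E] [IsScalarTower k K E] [IsScalarTower K₀ K E]

open scoped Classical in
/-- **Two-sided bound for `N_r(K)`** in a Galois tower `K₀ ⊆ K ⊆ E`. -/
theorem weil_tower [Finite k] [FiniteDimensional K₀ E] [IsGalois K₀ E]
    (hK₀ : IsFunctionField k K₀) (hK : IsFunctionField k K) :
    ∃ D c : ℕ, 0 < D ∧ ∀ a : ℕ, 0 < a → (c + 1) ^ 2 < Nat.card k ^ (D * a) →
      Nr k K (2 * (D * a)) ≤ Nat.card k ^ (2 * (D * a)) + (2 * c + 1) * Nat.card k ^ (D * a) ∧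
      Module.finrank K₀ E * Nr k K₀ (2 * (D * a)) +
          Module.finrank K E * (Nat.card k ^ (2 * (D * a)) + (2 * c + 1) * Nat.card k ^ (D * a)) ≤
        Module.finrank K E * Nr k K (2 * (D * a)) +
          Module.finrank K₀ E * (Nat.card k ^ (2 * (D * a)) + (2 * c + 1) * Nat.card k ^ (D * a)) := by
  haveI : FiniteDimensional K E := FiniteDimensional.right K₀ K E
  haveI : IsGalois K E := IsGalois.tower_top_of_isGalois K₀ K E
  have hW : WeakFF k E := (IsFunctionField.weakFF hK).of_finite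
  set k₁ := algebraicClosure k E with hk₁
  set d₁ := Module.finrank k k₁ with hd₁
  have hd₁pos : 0 < d₁ := hW.finrank_kc_pos
  obtain ⟨d, c, hd, hB⟩ := frobDeg_le_of_fix hW
  refine ⟨d₁ * d, c, Nat.mul_pos hd₁pos hd, ?_⟩
  intro a ha hca
  have hexp : d₁ * d * a = d₁ * (d * a) := mul_assoc _ _ _
  rw [hexp] at hca ⊢
  set r := 2 * (d₁ * (d * a)) with hr
  have hrpos : 0 < r := by
    rw [hr]
    exact Nat.mul_pos (by norm_num) (Nat.mul_pos hd₁pos (Nat.mul_pos hd ha))
  have hdvd : d₁ ∣ r := ⟨2 * (d * a), by rw [hr]; ring⟩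
  set B := Nat.card k ^ r + (2 * c + 1) * Nat.card k ^ (d₁ * (d * a)) with hBdef
  -- pointwise bounds
  have hptG : ∀ τ : E ≃ₐ[K₀] E, frobDeg k τ r ≤
      if (∀ c ∈ k₁, τ c = c) then d₁ * B else 0 := by
    intro τ
    split_ifs with hfix
    · let τ₁ : E ≃ₐ[k₁] E := AlgEquiv.ofRingEquiv (f := τ.toRingEquiv) (fun c => hfix c.1 c.2)
      exact hB τ₁ a hca
    · rw [frobDeg_eq_zero_of_not_fix hK₀ τ hdvd hfix]
  have hptH : ∀ σ : E ≃ₐ[K] E, frobDeg k σ r ≤
      if (∀ c ∈ k₁, σ c = c) then d₁ * B else 0 := by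
    intro σ
    split_ifs with hfix
    · let τ₁ : E ≃ₐ[k₁] E := AlgEquiv.ofRingEquiv (f := σ.toRingEquiv) (fun c => hfix c.1 c.2)
      exact hB τ₁ a hca
    · rw [frobDeg_eq_zero_of_not_fix hK σ hdvd hfix]
  -- sums of the indicator
  have hindG : ∑ τ : E ≃ₐ[K₀] E, (if (∀ c ∈ k₁, τ c = c) then d₁ * B else 0) =
      Module.finrank K₀ E * B := by
    rw [← Finset.sum_filter, Finset.sum_const, smul_eq_mul, ← card_fix_mul (E := E) hK₀,
      Nat.card_eq_fintype_card, Fintype.card_subtype]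
    ring
  have hindH : ∑ σ : E ≃ₐ[K] E, (if (∀ c ∈ k₁, σ c = c) then d₁ * B else 0) =
      Module.finrank K E * B := by
    rw [← Finset.sum_filter, Finset.sum_const, smul_eq_mul, ← card_fix_mul (E := E) hK,
      Nat.card_eq_fintype_card, Fintype.card_subtype]
    ring
  have hsumG := sum_frobDeg (E := E) hK₀ hrpos
  have hsumH := sum_frobDeg (E := E) hK hrpos
  constructor
  · -- upper bound
    have h1 : Module.finrank K E * Nr k K r ≤ Module.finrank K E * B := by
      rw [← hsumH, ← hindH]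
      exact Finset.sum_le_sum fun σ _ => hptH σ
    exact Nat.le_of_mul_le_mul_left h1 Module.finrank_pos
  · -- lower bound
    set ι : (E ≃ₐ[K] E) → (E ≃ₐ[K₀] E) := fun σ => σ.restrictScalars K₀ with hι
    have hιinj : Function.Injective ι := by
      intro σ σ' h
      ext x
      exact congrArg (fun τ : E ≃ₐ[K₀] E => τ x) h
    have hsplit : ∀ f : (E ≃ₐ[K₀] E) → ℕ, ∑ τ, f τ =
        ∑ σ : E ≃ₐ[K] E, f (ι σ) + ∑ τ ∈ (Finset.univ.image ι)ᶜ, f τ := by
      intro f
      rw [← Finset.sum_add_sum_compl (Finset.univ.image ι) f,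
        Finset.sum_image (fun σ _ σ' _ h => hιinj h)]
    have h1 := hsplit (fun τ => frobDeg k τ r)
    have h2 := hsplit (fun τ => if (∀ c ∈ k₁, τ c = c) then d₁ * B else 0)
    rw [hindG] at h2
    have h3 : ∑ σ : E ≃ₐ[K] E, (if (∀ c ∈ k₁, (ι σ) c = c) then d₁ * B else 0) =
        Module.finrank K E * B := hindH
    have h4 : ∑ σ : E ≃ₐ[K] E, frobDeg k (ι σ) r = Module.finrank K E * Nr k K r := hsumH
    have h5 : ∑ τ ∈ (Finset.univ.image ι)ᶜ, frobDeg k τ r ≤
        ∑ τ ∈ (Finset.univ.image ι)ᶜ, (if (∀ c ∈ k₁, τ c = c) then d₁ * B else 0) :=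
      Finset.sum_le_sum fun τ _ => hptG τ
    rw [hsumG] at h1
    rw [h3] at h2
    rw [h4] at h1
    omega

end Groth.Agent.Lib.Helper24.RH
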